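import Mathlib
import Cfsg.Prelude.Def_Sporadic_a
import Cfsg.Prelude.Def_SporadicCombinatorics
import Cfsg.Agent.Lib.Helper9.M24Sext

set_option autoImplicit false

open scoped Pointwise

namespace Cfsg.Agent.Lib.Helper9

open Cfsg

section

variable {A B : Type*} [MulAction (Equiv.Perm GolayPt) A] [MulAction (Equiv.Perm GolayPt) B]

theorem mem_orbit_transport {g : Equiv.Perm GolayPt} (hg : g ∈ M24) (s0 : B) (x s : A) :
    s ∈ MulAction.orbit ↥(MulAction.stabilizer ↥M24 (g • s0)) (g • x) ↔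
      g⁻¹ • s ∈ orbS (M24 ⊓ MulAction.stabilizer (Equiv.Perm GolayPt) s0) x := by
  rw [orbit_transport hg]
  constructor
  · rintro ⟨y, hy, rfl⟩
    rw [inv_smul_smul]; exact hy
  · intro h
    exact ⟨g⁻¹ • s, h, smul_inv_smul g s⟩

theorem three_orbits (s0 : B) (S : Set A) (hSfin : S.Finite)
    (hSinv : ∀ h ∈ M24, ∀ s ∈ S, h • s ∈ S)
    (x1 x2 x3 : A) (h1 : x1 ∈ S) (h2 : x2 ∈ S) (h3 : x3 ∈ S) (n1 n2 n3 : ℕ)
    (c1 : (orbS (M24 ⊓ MulAction.stabilizer (Equiv.Perm GolayPt) s0) x1).ncard = n1)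
    (c2 : (orbS (M24 ⊓ MulAction.stabilizer (Equiv.Perm GolayPt) s0) x2).ncard = n2)
    (c3 : (orbS (M24 ⊓ MulAction.stabilizer (Equiv.Perm GolayPt) s0) x3).ncard = n3)
    (hd : [n1, n2, n3].Nodup) (hsum : S.ncard ≤ n1 + n2 + n3)
    {g : Equiv.Perm GolayPt} (hg : g ∈ M24) :
    ∃ X₁ ∈ S, ∃ X₂ ∈ S, ∃ X₃ ∈ S,
      (MulAction.orbit ↥(MulAction.stabilizer ↥M24 (g • s0)) X₁).ncard = n1 ∧
      (MulAction.orbit ↥(MulAction.stabilizer ↥M24 (g • s0)) X₂).ncard = n2 ∧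
      (MulAction.orbit ↥(MulAction.stabilizer ↥M24 (g • s0)) X₃).ncard = n3 ∧
      S = MulAction.orbit ↥(MulAction.stabilizer ↥M24 (g • s0)) X₁ ∪
        MulAction.orbit ↥(MulAction.stabilizer ↥M24 (g • s0)) X₂ ∪
        MulAction.orbit ↥(MulAction.stabilizer ↥M24 (g • s0)) X₃ := by
  have hxs : ∀ x ∈ [x1, x2, x3], x ∈ S := by
    intro x hx
    simp only [List.mem_cons, List.not_mem_nil, or_false] at hx
    rcases hx with rfl | rfl | rfl <;> assumption
  have cover := cover_of_orbits (M24 ⊓ MulAction.stabilizer (Equiv.Perm GolayPt) s0) S hSfin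
    (fun h hh s hs => hSinv h hh.1 s hs) [x1, x2, x3] hxs
    (by simp only [List.map_cons, List.map_nil]; rw [c1, c2, c3]; exact hd)
    (by simp only [List.map_cons, List.map_nil, List.sum_cons, List.sum_nil]; rw [c1, c2, c3]; omega)
  refine ⟨g • x1, hSinv g hg x1 h1, g • x2, hSinv g hg x2 h2, g • x3, hSinv g hg x3 h3,
    by rw [ncard_orbit_transport hg]; exact c1, by rw [ncard_orbit_transport hg]; exact c2,
    by rw [ncard_orbit_transport hg]; exact c3, ?_⟩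
  ext s
  simp only [Set.mem_union, mem_orbit_transport hg]
  constructor
  · intro hs
    obtain ⟨x, hx, hmem⟩ := cover (g⁻¹ • s) (hSinv _ (M24.inv_mem hg) s hs)
    simp only [List.mem_cons, List.not_mem_nil, or_false] at hx
    rcases hx with rfl | rfl | rfl
    · exact Or.inl (Or.inl hmem)
    · exact Or.inl (Or.inr hmem)
    · exact Or.inr hmem
  · have key : ∀ x ∈ S, g⁻¹ • s ∈ orbS (M24 ⊓ MulAction.stabilizer (Equiv.Perm GolayPt) s0) x →
        s ∈ S := by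
      rintro x hx ⟨k, hk, he⟩
      have : g • k • x ∈ S := hSinv g hg _ (hSinv k hk.1 x hx)
      rwa [he, smul_inv_smul] at this
    rintro ((h | h) | h)
    · exact key x1 h1 h
    · exact key x2 h2 h
    · exact key x3 h3 h

theorem four_orbits (s0 : B) (S : Set A) (hSfin : S.Finite)
    (hSinv : ∀ h ∈ M24, ∀ s ∈ S, h • s ∈ S)
    (x1 x2 x3 x4 : A) (h1 : x1 ∈ S) (h2 : x2 ∈ S) (h3 : x3 ∈ S) (h4 : x4 ∈ S) (n1 n2 n3 n4 : ℕ)
    (c1 : (orbS (M24 ⊓ MulAction.stabilizer (Equiv.Perm GolayPt) s0) x1).ncard = n1)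
    (c2 : (orbS (M24 ⊓ MulAction.stabilizer (Equiv.Perm GolayPt) s0) x2).ncard = n2)
    (c3 : (orbS (M24 ⊓ MulAction.stabilizer (Equiv.Perm GolayPt) s0) x3).ncard = n3)
    (c4 : (orbS (M24 ⊓ MulAction.stabilizer (Equiv.Perm GolayPt) s0) x4).ncard = n4)
    (hd : [n1, n2, n3, n4].Nodup) (hsum : S.ncard ≤ n1 + n2 + n3 + n4)
    {g : Equiv.Perm GolayPt} (hg : g ∈ M24) :
    ∃ X₁ ∈ S, ∃ X₂ ∈ S, ∃ X₃ ∈ S, ∃ X₄ ∈ S,
      (MulAction.orbit ↥(MulAction.stabilizer ↥M24 (g • s0)) X₁).ncard = n1 ∧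
      (MulAction.orbit ↥(MulAction.stabilizer ↥M24 (g • s0)) X₂).ncard = n2 ∧
      (MulAction.orbit ↥(MulAction.stabilizer ↥M24 (g • s0)) X₃).ncard = n3 ∧
      (MulAction.orbit ↥(MulAction.stabilizer ↥M24 (g • s0)) X₄).ncard = n4 ∧
      S = MulAction.orbit ↥(MulAction.stabilizer ↥M24 (g • s0)) X₁ ∪
        MulAction.orbit ↥(MulAction.stabilizer ↥M24 (g • s0)) X₂ ∪
        MulAction.orbit ↥(MulAction.stabilizer ↥M24 (g • s0)) X₃ ∪
        MulAction.orbit ↥(MulAction.stabilizer ↥M24 (g • s0)) X₄ := by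
  have hxs : ∀ x ∈ [x1, x2, x3, x4], x ∈ S := by
    intro x hx
    simp only [List.mem_cons, List.not_mem_nil, or_false] at hx
    rcases hx with rfl | rfl | rfl | rfl <;> assumption
  have cover := cover_of_orbits (M24 ⊓ MulAction.stabilizer (Equiv.Perm GolayPt) s0) S hSfin
    (fun h hh s hs => hSinv h hh.1 s hs) [x1, x2, x3, x4] hxs
    (by simp only [List.map_cons, List.map_nil]; rw [c1, c2, c3, c4]; exact hd)
    (by
      simp only [List.map_cons, List.map_nil, List.sum_cons, List.sum_nil]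
      rw [c1, c2, c3, c4]; omega)
  refine ⟨g • x1, hSinv g hg x1 h1, g • x2, hSinv g hg x2 h2, g • x3, hSinv g hg x3 h3,
    g • x4, hSinv g hg x4 h4,
    by rw [ncard_orbit_transport hg]; exact c1, by rw [ncard_orbit_transport hg]; exact c2,
    by rw [ncard_orbit_transport hg]; exact c3, by rw [ncard_orbit_transport hg]; exact c4, ?_⟩
  ext s
  simp only [Set.mem_union, mem_orbit_transport hg]
  constructor
  · intro hs
    obtain ⟨x, hx, hmem⟩ := cover (g⁻¹ • s) (hSinv _ (M24.inv_mem hg) s hs)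
    simp only [List.mem_cons, List.not_mem_nil, or_false] at hx
    rcases hx with rfl | rfl | rfl | rfl
    · exact Or.inl (Or.inl (Or.inl hmem))
    · exact Or.inl (Or.inl (Or.inr hmem))
    · exact Or.inl (Or.inr hmem)
    · exact Or.inr hmem
  · have key : ∀ x ∈ S, g⁻¹ • s ∈ orbS (M24 ⊓ MulAction.stabilizer (Equiv.Perm GolayPt) s0) x →
        s ∈ S := by
      rintro x hx ⟨k, hk, he⟩
      have : g • k • x ∈ S := hSinv g hg _ (hSinv k hk.1 x hx)
      rwa [he, smul_inv_smul] at this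
    rintro (((h | h) | h) | h)
    · exact key x1 h1 h
    · exact key x2 h2 h
    · exact key x3 h3 h
    · exact key x4 h4 h

end

end Cfsg.Agent.Lib.Helper9
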