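import Mathlib
import Cfsg.Prelude.Def_Sporadic_a
import Cfsg.Prelude.Def_SporadicCombinatorics
import Cfsg.Agent.Lib.Helper9.M24Cover

set_option autoImplicit false

open scoped Pointwise

namespace Cfsg.Agent.Lib.Helper9

open Cfsg

def gensKsex : List (List ℕ) :=
  [[14, 17, 5, 23, 21, 11, 19, 18, 7, 16, 13, 8, 20, 2, 6, 4, 12, 9, 0, 10, 3, 1, 15, 22],
   [20, 13, 18, 21, 19, 11, 17, 16, 2, 5, 8, 23, 15, 4, 9, 3, 0, 6, 12, 1, 10, 7, 14, 22],
   [22, 6, 9, 11, 23, 19, 13, 17, 1, 20, 5, 18, 14, 10, 15, 3, 0, 8, 4, 2, 7, 12, 21, 16]]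

def gensKtrio : List (List ℕ) :=
  [[21, 15, 12, 20, 7, 4, 17, 0, 3, 1, 2, 9, 8, 23, 11, 18, 5, 22, 14, 6, 10, 16, 13, 19],
   [16, 6, 18, 13, 12, 8, 5, 1, 0, 2, 23, 20, 21, 17, 9, 22, 3, 10, 14, 15, 11, 19, 4, 7],
   [17, 5, 23, 14, 8, 1, 4, 15, 20, 12, 19, 10, 16, 11, 3, 18, 21, 0, 22, 13, 6, 9, 7, 2]]

/-- The stabiliser of the base sextet. -/
def Ksex : Subgroup (Equiv.Perm GolayPt) :=
  M24 ⊓ MulAction.stabilizer (Equiv.Perm GolayPt) (obj S0l)

theorem card_Ksex : Nat.card Ksex = 138240 := sexA.2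

theorem memKsex (l : List ℕ) (hl : isM24L l = true)
    (h : sameSet (S0l.map (actM l 0)) S0l = true) : permL l ∈ Ksex :=
  ⟨permL_mem_M24 hl, stab_obj_of_sameSet (isPermL_of_isM24L hl) _ h⟩

theorem gensKsex_ok :
    gensKsex.all (fun l => isM24L l && sameSet (S0l.map (actM l 0)) S0l) = true := by
  decide +kernel

/-- The stabiliser of the base trio. -/
def Ktrio : Subgroup (Equiv.Perm GolayPt) :=
  M24 ⊓ MulAction.stabilizer (Equiv.Perm GolayPt) (obj T0l)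

theorem card_Ktrio : Nat.card Ktrio = 64512 := trioA.2

theorem memKtrio (l : List ℕ) (hl : isM24L l = true)
    (h : sameSet (T0l.map (actM l 0)) T0l = true) : permL l ∈ Ktrio :=
  ⟨permL_mem_M24 hl, stab_obj_of_sameSet (isPermL_of_isM24L hl) _ h⟩

theorem gensKtrio_ok :
    gensKtrio.all (fun l => isM24L l && sameSet (T0l.map (actM l 0)) T0l) = true := by
  decide +kernel

theorem exists_smul_eq_sextet {S : Finset (Finset GolayPt)} (hS : S ∈ sextets) :
    ∃ g ∈ M24, g • obj S0l = S := by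
  rw [← sextets_eq_orbit] at hS
  exact hS

theorem exists_smul_eq_trio {T : Finset (Finset GolayPt)} (hT : T ∈ trios) :
    ∃ g ∈ M24, g • obj T0l = T := by
  rw [← trios_eq_orbit] at hT
  exact hT

end Cfsg.Agent.Lib.Helper9
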