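import Mathlib
import Cfsg.Prelude.Def_Sporadic_a
import Cfsg.Prelude.Def_SporadicCombinatorics
import Cfsg.Agent.Lib.Helper9.M24Stab

set_option autoImplicit false

open scoped Pointwise

namespace Cfsg.Agent.Lib.Helper9

open Cfsg

/-- Valid permutation lists are determined by the permutations they encode. -/
theorem permL_inj {l l' : List ℕ} (h : isPermL l = true) (h' : isPermL l' = true)
    (e : permL l = permL l') : l = l' := by
  apply List.ext_getElem
  · rw [isPermL_length h, isPermL_length h']
  · intro i h1 h2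
    have hi : i < 24 := by rw [isPermL_length h] at h1; exact h1
    have e1 := permL_ptOf h hi
    have e2 := permL_ptOf h' hi
    rw [e] at e1
    rw [e1] at e2
    have := ptOf_injOn (getD_lt_of_isPermL h hi) (getD_lt_of_isPermL h' hi) e2
    rw [List.getD_eq_getElem _ _ h1, List.getD_eq_getElem _ _ h2] at this
    exact this

/-- A subgroup of known order containing that many listed elements consists of them. -/
theorem subgroup_eq_list (K : Subgroup (Equiv.Perm GolayPt)) (L : List (List ℕ)) (n : ℕ)
    (hK : Nat.card K = n) (hL : ∀ l ∈ L, isPermL l = true ∧ permL l ∈ K) (hnd : L.Nodup)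
    (hlen : L.length = n) : ∀ g ∈ K, ∃ l ∈ L, g = permL l := by
  classical
  have hinj : Set.InjOn permL (L.toFinset : Set (List ℕ)) := by
    intro a ha b hb e
    simp only [Finset.mem_coe, List.mem_toFinset] at ha hb
    exact permL_inj (hL a ha).1 (hL b hb).1 e
  have hcard : (L.toFinset.image permL).card = n := by
    rw [Finset.card_image_of_injOn hinj, List.toFinset_card_of_nodup hnd, hlen]
  have hsub : ((L.toFinset.image permL : Finset (Equiv.Perm GolayPt)) : Set (Equiv.Perm GolayPt)) ⊆
      (K : Set (Equiv.Perm GolayPt)) := by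
    intro g hg
    simp only [Finset.coe_image, Set.mem_image, Finset.mem_coe, List.mem_toFinset] at hg
    obtain ⟨l, hl, rfl⟩ := hg
    exact (hL l hl).2
  have heq := Set.eq_of_subset_of_ncard_le hsub (by
    rw [Set.ncard_coe_finset, hcard, ← hK]
    exact le_of_eq (Nat.card_coe_set_eq (K : Set (Equiv.Perm GolayPt))).symm) (Set.toFinite _)
  intro g hg
  have : g ∈ ((L.toFinset.image permL : Finset (Equiv.Perm GolayPt)) : Set (Equiv.Perm GolayPt)) := by
    rw [heq]; exact hg
  simp only [Finset.coe_image, Set.mem_image, Finset.mem_coe, List.mem_toFinset] at this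
  obtain ⟨l, hl, rfl⟩ := this
  exact ⟨l, hl, rfl⟩

theorem mset_mem_obj_iff {l : List ℕ} (hb : ∀ a ∈ l, a < 2 ^ 24) {m : ℕ} (hm : m < 2 ^ 24) :
    mset m ∈ obj l ↔ m ∈ l := by
  rw [mem_obj]
  constructor
  · rintro ⟨a, ha, e⟩
    rw [← mset_injOn (hb a ha) hm e]; exact ha
  · intro h
    exact ⟨m, h, rfl⟩

/-- A fixed set belongs to a translate exactly when it belongs to the original family. -/
theorem mem_smul_of_fixed {k : Equiv.Perm GolayPt} {s : Finset GolayPt} (hk : k • s = s)
    (S : Finset (Finset GolayPt)) : s ∈ k • S ↔ s ∈ S := by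
  conv_lhs => rw [← hk]
  exact Finset.smul_mem_smul_finset_iff k

/-- A permutation list fixing the indices of a mask fixes the points of the mask. -/
theorem permL_fix_of_list {l : List ℕ} (h : isPermL l = true) (m : ℕ)
    (hfix : ∀ i : Fin 24, m.testBit i.val = true → l.getD i.val 0 = i.val) :
    ∀ p ∈ mset m, permL l p = p := by
  intro p hp
  rw [mem_mset] at hp
  rw [permL_apply h]
  unfold listFun
  rw [hfix ⟨ptIdx p, ptIdx_lt p⟩ hp, ptOf_ptIdx]

end Cfsg.Agent.Lib.Helper9
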