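import Mathlib
import Cfsg.Prelude.Def_Sporadic_a
import Cfsg.Agent.Lib.Helper9.M24Oct

set_option autoImplicit false

open scoped Pointwise

namespace Cfsg.Agent.Lib.Helper9

open Cfsg

section Bridge

variable {A B : Type*} [MulAction (Equiv.Perm GolayPt) A] [MulAction (Equiv.Perm GolayPt) B]

/-- The joint stabiliser inside the code's group, as a subgroup of the permutation group. -/
def bridgeStab2 (x : A) (y : B) :
    ↥(MulAction.stabilizer ↥M24 x ⊓ MulAction.stabilizer ↥M24 y) ≃*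
      ↥((M24 ⊓ MulAction.stabilizer (Equiv.Perm GolayPt) x) ⊓
        MulAction.stabilizer (Equiv.Perm GolayPt) y) where
  toFun h := ⟨h.1.1, ⟨⟨h.1.2, h.2.1⟩, h.2.2⟩⟩
  invFun h := ⟨⟨h.1, h.2.1.1⟩, ⟨h.2.1.2, h.2.2⟩⟩
  left_inv _ := rfl
  right_inv _ := rfl
  map_mul' _ _ := rfl

/-- Conjugation by an element of the code's group carries joint stabilisers to joint
stabilisers. -/
def conjStab2 {g : Equiv.Perm GolayPt} (hg : g ∈ M24) (x : A) (y : B) :
    ↥((M24 ⊓ MulAction.stabilizer (Equiv.Perm GolayPt) x) ⊓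
        MulAction.stabilizer (Equiv.Perm GolayPt) y) ≃*
      ↥((M24 ⊓ MulAction.stabilizer (Equiv.Perm GolayPt) (g • x)) ⊓
        MulAction.stabilizer (Equiv.Perm GolayPt) (g • y)) where
  toFun h := ⟨g * h.1 * g⁻¹, by
    have h1 : h.1 ∈ M24 := h.2.1.1
    have h2 : h.1 • x = x := h.2.1.2
    have h3 : h.1 • y = y := h.2.2
    refine ⟨⟨M24.mul_mem (M24.mul_mem hg h1) (M24.inv_mem hg), ?_⟩, ?_⟩
    · show (g * h.1 * g⁻¹) • g • x = g • x
      rw [mul_smul, mul_smul, inv_smul_smul, h2]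
    · show (g * h.1 * g⁻¹) • g • y = g • y
      rw [mul_smul, mul_smul, inv_smul_smul, h3]⟩
  invFun h := ⟨g⁻¹ * h.1 * g, by
    have h1 : h.1 ∈ M24 := h.2.1.1
    have h2 : h.1 • g • x = g • x := h.2.1.2
    have h3 : h.1 • g • y = g • y := h.2.2
    refine ⟨⟨M24.mul_mem (M24.mul_mem (M24.inv_mem hg) h1) hg, ?_⟩, ?_⟩
    · show (g⁻¹ * h.1 * g) • x = x
      rw [mul_smul, mul_smul, h2, inv_smul_smul]
    · show (g⁻¹ * h.1 * g) • y = y
      rw [mul_smul, mul_smul, h3, inv_smul_smul]⟩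
  left_inv h := by
    apply Subtype.ext
    show g⁻¹ * (g * h.1 * g⁻¹) * g = h.1
    group
  right_inv h := by
    apply Subtype.ext
    show g * (g⁻¹ * h.1 * g) * g⁻¹ = h.1
    group
  map_mul' h k := by
    apply Subtype.ext
    show g * (h.1 * k.1) * g⁻¹ = (g * h.1 * g⁻¹) * (g * k.1 * g⁻¹)
    group

end Bridge

theorem card_inter_smul (g : Equiv.Perm GolayPt) (s t : Finset GolayPt) :
    (g • s ∩ g • t).card = (s ∩ t).card := by
  rw [← Finset.smul_finset_inter, Finset.card_smul_finset]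

theorem inter_of_mem_orb {m : ℕ} {s : Finset GolayPt} (h : s ∈ orbS Koct (mset m)) :
    (mset 8536111 ∩ s).card = pc 24 (8536111 &&& m) := by
  obtain ⟨g, hg, rfl⟩ := h
  have h1 : g • mset 8536111 = mset 8536111 := hg.2
  rw [← card_mset, mset_and]
  conv_lhs => rw [← h1]
  exact card_inter_smul g _ _

/-- Transitivity on ordered pairs of octads with prescribed intersection size. -/
theorem exists_pair_octads {o o' : Finset GolayPt} (ho : o ∈ octads) (ho' : o' ∈ octads) :
    ((o ∩ o').card = 0 → ∃ g ∈ M24, g • mset 8536111 = o ∧ g • mset 337856 = o') ∧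
    ((o ∩ o').card = 4 → ∃ g ∈ M24, g • mset 8536111 = o ∧ g • mset 5279 = o') ∧
    ((o ∩ o').card = 2 → ∃ g ∈ M24, g • mset 8536111 = o ∧ g • mset 15777 = o') := by
  obtain ⟨g1, hg1, rfl⟩ := exists_smul_eq_octad ho
  have ho'' : g1⁻¹ • o' ∈ octads := smul_mem_octads (M24.inv_mem hg1) ho'
  have hc : (g1 • mset 8536111 ∩ o').card = (mset 8536111 ∩ g1⁻¹ • o').card := by
    have := card_inter_smul g1 (mset 8536111) (g1⁻¹ • o')
    rw [smul_inv_smul] at this
    exact this
  have key : ∀ m : ℕ, g1⁻¹ • o' ∈ orbS Koct (mset m) →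
      ∃ g ∈ M24, g • mset 8536111 = g1 • mset 8536111 ∧ g • mset m = o' := by
    rintro m ⟨h, hh, he⟩
    refine ⟨g1 * h, M24.mul_mem hg1 hh.1, ?_, ?_⟩
    · rw [mul_smul]
      congr 1
      exact hh.2
    · rw [mul_smul, he, smul_inv_smul]
  have c8 : (mset 8536111 ∩ mset 8536111).card = 8 := by
    rw [Finset.inter_self, card_mset]; decide +kernel
  have e0 : pc 24 (8536111 &&& 337856) = 0 := by decide +kernel
  have e4 : pc 24 (8536111 &&& 5279) = 4 := by decide +kernel
  have e2 : pc 24 (8536111 &&& 15777) = 2 := by decide +kernel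
  rw [hc]
  rcases oct_cover ho'' with h | h | h | h
  · rw [h, c8]
    refine ⟨fun h => ?_, fun h => ?_, fun h => ?_⟩ <;> omega
  · have := inter_of_mem_orb h
    rw [e0] at this
    refine ⟨fun _ => key _ h, fun h => ?_, fun h => ?_⟩ <;> omega
  · have := inter_of_mem_orb h
    rw [e4] at this
    refine ⟨fun h => ?_, fun _ => key _ h, fun h => ?_⟩ <;> omega
  · have := inter_of_mem_orb h
    rw [e2] at this
    refine ⟨fun h => ?_, fun h => ?_, fun _ => key _ h⟩ <;> omega

end Cfsg.Agent.Lib.Helper9
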