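import Mathlib
import Cfsg.Prelude.Def_Sporadic_a
import Cfsg.Agent.Lib.Helper9.M24Pair

set_option autoImplicit false

open scoped Pointwise

namespace Cfsg.Agent.Lib.Helper9

open Cfsg

/-- Restriction of a group of permutations preserving a set of points to that set. -/
def restrictHom (L : Subgroup (Equiv.Perm GolayPt)) (E : Finset GolayPt)
    (hL : ∀ g ∈ L, ∀ x, g x ∈ E ↔ x ∈ E) : ↥L →* Equiv.Perm ↥E where
  toFun g := Equiv.Perm.subtypePerm g.1 (hL g.1 g.2)
  map_one' := by ext x; rfl
  map_mul' := by intro g h; ext x; rfl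

theorem restrictHom_apply (L : Subgroup (Equiv.Perm GolayPt)) (E : Finset GolayPt)
    (hL : ∀ g ∈ L, ∀ x, g x ∈ E ↔ x ∈ E) (g : ↥L) (x : ↥E) :
    ((restrictHom L E hL g) x : GolayPt) = g.1 x := rfl

theorem restrictHom_eq_one_iff (L : Subgroup (Equiv.Perm GolayPt)) (E : Finset GolayPt)
    (hL : ∀ g ∈ L, ∀ x, g x ∈ E ↔ x ∈ E) (g : ↥L) :
    restrictHom L E hL g = 1 ↔ ∀ p ∈ E, g.1 p = p := by
  constructor
  · intro h p hp
    have := congrArg (fun σ : Equiv.Perm ↥E => (σ ⟨p, hp⟩ : GolayPt)) h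
    exact this
  · intro h
    apply Equiv.ext
    intro x
    apply Subtype.ext
    exact h x.1 x.2

theorem card_perm_coe (E : Finset GolayPt) :
    Nat.card (Equiv.Perm ↥E) = E.card.factorial := by
  rw [Nat.card_eq_fintype_card, Fintype.card_perm, Fintype.card_coe]

/-- An injective restriction from a group of order `n!` to an `n`-set is an isomorphism. -/
theorem restrict_iso (L : Subgroup (Equiv.Perm GolayPt)) (E : Finset GolayPt)
    (hL : ∀ g ∈ L, ∀ x, g x ∈ E ↔ x ∈ E) (n : ℕ) (hE : E.card = n)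
    (hcard : Nat.card L = n.factorial)
    (hinj : ∀ g ∈ L, (∀ p ∈ E, g p = p) → g = 1) :
    Nonempty (↥L ≃* Equiv.Perm (Fin n)) := by
  have hi : Function.Injective (restrictHom L E hL) := by
    rw [injective_iff_map_eq_one]
    intro g hg
    rw [restrictHom_eq_one_iff] at hg
    exact Subtype.ext (hinj g.1 g.2 hg)
  have hb : Function.Bijective (restrictHom L E hL) :=
    hi.bijective_of_nat_card_le (by rw [card_perm_coe, hE, hcard])
  have hcE : Fintype.card ↥E = n := by rw [Fintype.card_coe, hE]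
  exact ⟨(MulEquiv.ofBijective (restrictHom L E hL) hb).trans
    (Fintype.equivFinOfCardEq hcE).permCongrHom⟩

theorem permL_id :
    permL [0, 1, 2, 3, 4, 5, 6, 7, 8, 9, 10, 11, 12, 13, 14, 15, 16, 17, 18, 19, 20, 21, 22, 23] = 1 := by
  apply Equiv.ext
  intro p
  rw [permL_apply (by decide +kernel)]
  revert p
  decide

/-- A permutation in the code's group is determined by a rigid set of values. -/
theorem eq_of_rigid (steps : List (ℕ × ℕ)) (fx : ℕ) (h : rigidChk steps fx = true)
    (g u : Equiv.Perm GolayPt) (hg : g ∈ M24) (hu : u ∈ M24)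
    (hgu : ∀ p ∈ mset fx, g p = u p) : g = u := by
  have h1 : u⁻¹ * g = 1 := by
    apply rigid_of_chk steps fx h _ (M24.mul_mem (M24.inv_mem hu) hg)
    intro p hp
    rw [Equiv.Perm.mul_apply, hgu p hp]
    simp
  rw [← mul_one u, ← h1]
  group

end Cfsg.Agent.Lib.Helper9
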