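import Mathlib
import Cfsg.Prelude.Def_Sporadic_a
import Cfsg.Prelude.Def_SporadicCombinatorics
import Cfsg.Agent.Lib.Helper9.M24List
import Cfsg.Agent.Lib.Helper9.M24Restrict

set_option autoImplicit false

open scoped Pointwise

namespace Cfsg.Agent.Lib.Helper9

open Cfsg

/-- The identity index list. -/
def idL : List ℕ :=
  [0, 1, 2, 3, 4, 5, 6, 7, 8, 9, 10, 11, 12, 13, 14, 15, 16, 17, 18, 19, 20, 21, 22, 23]

theorem permL_idL : permL idL = 1 := permL_id

theorem isPermL_idL : isPermL idL = true := by decide

/-- Composition of index lists: `(compL a b)[i] = a[b[i]]`. -/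
def compL (a b : List ℕ) : List ℕ := b.map (fun i => a.getD i 0)

theorem getD_compL {a b : List ℕ} {k : ℕ} (hk : k < b.length) :
    (compL a b).getD k 0 = a.getD (b.getD k 0) 0 := by
  unfold compL
  rw [List.getD_eq_getElem _ _ (by rw [List.length_map]; exact hk), List.getElem_map,
    List.getD_eq_getElem _ _ hk]

theorem isPermL_compL {a b : List ℕ} (ha : isPermL a = true) (hb : isPermL b = true) :
    isPermL (compL a b) = true := by
  have hlen : (compL a b).length = 24 := by
    unfold compL; rw [List.length_map, isPermL_length hb]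
  unfold isPermL
  rw [Bool.and_eq_true, beq_iff_eq, beq_iff_eq]
  refine ⟨hlen, ?_⟩
  apply Nat.eq_of_testBit_eq
  intro j
  by_cases hj : j < 24
  · have h1 : (16777215 : ℕ).testBit j = true := by rw [testBit_full]; simpa using hj
    rw [h1, testBit_actM]
    have h2 : (actM a 0 16777215).testBit j = true := by rw [isPermL_full ha]; exact h1
    rw [testBit_actM] at h2
    obtain ⟨i, hi, -, hij⟩ := h2
    rw [isPermL_length ha] at hi
    have h3 : (actM b 0 16777215).testBit i = true := by
      rw [isPermL_full hb, testBit_full]; simpa using hi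
    rw [testBit_actM] at h3
    obtain ⟨k, hk, -, hki⟩ := h3
    refine ⟨k, by rw [hlen, ← isPermL_length hb]; exact hk, ?_, ?_⟩
    · rw [zero_add, testBit_full]
      rw [isPermL_length hb] at hk
      simpa using hk
    · rw [getD_compL hk, hki, hij]
  · have h1 : (16777215 : ℕ).testBit j = false := by rw [testBit_full]; simpa using hj
    rw [h1]
    by_contra hcon
    have h2 : (actM (compL a b) 0 16777215).testBit j = true := by simpa using hcon
    rw [testBit_actM] at h2
    obtain ⟨k, hk, -, hkj⟩ := h2
    rw [hlen] at hk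
    have hk' : k < b.length := by rw [isPermL_length hb]; exact hk
    rw [getD_compL hk'] at hkj
    have := getD_lt_of_isPermL ha (getD_lt_of_isPermL hb hk)
    omega

theorem permL_mul {a b : List ℕ} (ha : isPermL a = true) (hb : isPermL b = true) :
    permL a * permL b = permL (compL a b) := by
  apply Equiv.ext
  intro p
  rw [Equiv.Perm.mul_apply, permL_apply hb, permL_apply (isPermL_compL ha hb), permL_apply ha]
  unfold listFun
  have hlt := getD_lt_of_isPermL hb (ptIdx_lt p)
  rw [ptIdx_ptOf hlt]
  congr 1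
  have hlen : ptIdx p < b.length := by rw [isPermL_length hb]; exact ptIdx_lt p
  rw [getD_compL hlen]

theorem permL_conj {c l r : List ℕ} (hc : isPermL c = true) (hl : isPermL l = true)
    (hr : isPermL r = true) (h : compL c l = compL r c) :
    permL c * permL l * (permL c)⁻¹ = permL r := by
  rw [permL_mul hc hl, h, ← permL_mul hr hc, mul_inv_cancel_right]

/-- Boolean check that a list of index lists is a group of permutations. -/
def listOK (L : List (List ℕ)) : Bool :=
  L.all isPermL && L.contains idL &&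
    L.all (fun a => L.all (fun b => L.contains (compL a b))) &&
    L.all (fun a => L.any (fun b => compL a b == idL))

/-- The subgroup consisting of the permutations of a closed list. -/
def listSub (L : List (List ℕ)) (h : listOK L = true) : Subgroup (Equiv.Perm GolayPt) where
  carrier := {g | ∃ l ∈ L, g = permL l}
  mul_mem' := by
    unfold listOK at h
    simp only [Bool.and_eq_true, List.all_eq_true, List.contains_iff_mem] at h
    rintro _ _ ⟨a, ha, rfl⟩ ⟨b, hb, rfl⟩
    exact ⟨compL a b, h.1.2 a ha b hb, permL_mul (h.1.1.1 a ha) (h.1.1.1 b hb)⟩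
  one_mem' := by
    unfold listOK at h
    simp only [Bool.and_eq_true, List.all_eq_true, List.contains_iff_mem] at h
    exact ⟨idL, h.1.1.2, permL_idL.symm⟩
  inv_mem' := by
    unfold listOK at h
    simp only [Bool.and_eq_true, List.all_eq_true, List.contains_iff_mem, List.any_eq_true,
      beq_iff_eq] at h
    rintro _ ⟨a, ha, rfl⟩
    obtain ⟨b, hb, hab⟩ := h.2 a ha
    refine ⟨b, hb, ?_⟩
    apply inv_eq_of_mul_eq_one_right
    rw [permL_mul (h.1.1.1 a ha) (h.1.1.1 b hb), hab, permL_idL]

theorem mem_listSub {L : List (List ℕ)} {h : listOK L = true} {g : Equiv.Perm GolayPt} :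
    g ∈ listSub L h ↔ ∃ l ∈ L, g = permL l := Iff.rfl

theorem listOK_perm {L : List (List ℕ)} (h : listOK L = true) : ∀ l ∈ L, isPermL l = true := by
  unfold listOK at h
  simp only [Bool.and_eq_true, List.all_eq_true] at h
  exact h.1.1.1

theorem card_listSub (L : List (List ℕ)) (h : listOK L = true) (hnd : L.Nodup) :
    Nat.card (listSub L h) = L.length := by
  classical
  have hinj : Set.InjOn permL (L.toFinset : Set (List ℕ)) := by
    intro a ha b hb e
    simp only [Finset.mem_coe, List.mem_toFinset] at ha hb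
    exact permL_inj (listOK_perm h a ha) (listOK_perm h b hb) e
  have hset : ((listSub L h : Subgroup (Equiv.Perm GolayPt)) : Set (Equiv.Perm GolayPt)) =
      ((L.toFinset.image permL : Finset (Equiv.Perm GolayPt)) : Set (Equiv.Perm GolayPt)) := by
    ext g
    simp only [SetLike.mem_coe, mem_listSub, Finset.coe_image, Set.mem_image, Finset.mem_coe,
      List.mem_toFinset]
    constructor
    · rintro ⟨l, hl, rfl⟩; exact ⟨l, hl, rfl⟩
    · rintro ⟨l, hl, rfl⟩; exact ⟨l, hl, rfl⟩
  calc Nat.card (listSub L h)
      = ((listSub L h : Subgroup (Equiv.Perm GolayPt)) : Set (Equiv.Perm GolayPt)).ncard :=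
        (Nat.card_coe_set_eq _).symm
    _ = L.length := by
        rw [hset, Set.ncard_coe_finset, Finset.card_image_of_injOn hinj,
          List.toFinset_card_of_nodup hnd]

/-- Sylow: a `p`-subgroup of the code's group is conjugate into a subgroup of the full
`p`-power order. -/
theorem exists_conj_le (P : Subgroup (Equiv.Perm GolayPt)) (hP : P ≤ M24) (p n : ℕ)
    [hp : Fact p.Prime] (hcard : Nat.card P = p ^ n)
    (hfac : (244823040 : ℕ).factorization p = n)
    (X : Subgroup ↥M24) (hX : IsPGroup p X) :
    ∃ k : ↥M24, ∀ x ∈ X,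
      (k : Equiv.Perm GolayPt) * (x : Equiv.Perm GolayPt) * (k : Equiv.Perm GolayPt)⁻¹ ∈ P := by
  have hc : Nat.card (P.subgroupOf M24) = p ^ (Nat.card ↥M24).factorization p := by
    rw [card_M24, hfac, ← hcard]
    exact Nat.card_congr (Subgroup.subgroupOfEquivOfLe hP).toEquiv
  let S : Sylow p ↥M24 := Sylow.ofCard (P.subgroupOf M24) hc
  obtain ⟨Q, hQ⟩ := hX.exists_le_sylow
  obtain ⟨k, hk⟩ := MulAction.exists_smul_eq ↥M24 Q S
  refine ⟨k, fun x hx => ?_⟩
  have h1 : x ∈ (Q : Subgroup ↥M24) := hQ hx
  have h2 : k * x * k⁻¹ ∈ ((k • Q : Sylow p ↥M24) : Subgroup ↥M24) := by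
    rw [Sylow.coe_subgroup_smul]
    exact Subgroup.smul_mem_pointwise_smul x (MulAut.conj k) _ h1
  rw [hk] at h2
  exact Subgroup.mem_subgroupOf.mp h2

/-- Sylow, for elements. -/
theorem exists_conj_mem (P : Subgroup (Equiv.Perm GolayPt)) (hP : P ≤ M24) (p n m : ℕ)
    [hp : Fact p.Prime] (hcard : Nat.card P = p ^ n)
    (hfac : (244823040 : ℕ).factorization p = n)
    (g : Equiv.Perm GolayPt) (hg : g ∈ M24) (ho : orderOf g = p ^ m) :
    ∃ k ∈ M24, k * g * k⁻¹ ∈ P := by
  have hX : IsPGroup p (Subgroup.zpowers (⟨g, hg⟩ : ↥M24)) := by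
    apply IsPGroup.of_card (n := m)
    rw [Nat.card_zpowers, ← ho]
    exact Subgroup.orderOf_mk g hg
  obtain ⟨k, hk⟩ := exists_conj_le P hP p n hcard hfac _ hX
  exact ⟨k.1, k.2, hk ⟨g, hg⟩ (Subgroup.mem_zpowers _)⟩

theorem fac2 : (244823040 : ℕ).factorization 2 = 10 := by
  have e : (244823040 : ℕ) = 2 ^ 10 * 239085 := by norm_num
  rw [e, Nat.factorization_mul (by norm_num) (by norm_num), Nat.Prime.factorization_pow Nat.prime_two]
  simp [Nat.factorization_eq_zero_of_not_dvd (by norm_num : ¬ 2 ∣ 239085)]

theorem fac3 : (244823040 : ℕ).factorization 3 = 3 := by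
  have e : (244823040 : ℕ) = 3 ^ 3 * 9067520 := by norm_num
  rw [e, Nat.factorization_mul (by norm_num) (by norm_num), Nat.Prime.factorization_pow Nat.prime_three]
  simp [Nat.factorization_eq_zero_of_not_dvd (by norm_num : ¬ 3 ∣ 9067520)]

theorem fac7 : (244823040 : ℕ).factorization 7 = 1 := by
  have e : (244823040 : ℕ) = 7 ^ 1 * 34974720 := by norm_num
  rw [e, Nat.factorization_mul (by norm_num) (by norm_num),
    Nat.Prime.factorization_pow (by norm_num : Nat.Prime 7)]
  simp [Nat.factorization_eq_zero_of_not_dvd (by norm_num : ¬ 7 ∣ 34974720)]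

/-- Fixed points of a listed permutation, as a mask. -/
theorem fix_eq_mset {l : List ℕ} (hl : isPermL l = true) (m : ℕ)
    (h : ∀ i : Fin 24, m.testBit i.val = decide (l.getD i.val 0 = i.val)) :
    (Finset.univ.filter fun p => permL l p = p) = mset m := by
  ext p
  rw [Finset.mem_filter, mem_mset, h ⟨ptIdx p, ptIdx_lt p⟩, permL_apply hl]
  simp only [Finset.mem_univ, true_and, decide_eq_true_eq]
  unfold listFun
  constructor
  · intro e
    have := congrArg ptIdx e
    rw [ptIdx_ptOf (getD_lt_of_isPermL hl (ptIdx_lt p))] at this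
    exact this
  · intro e
    rw [e, ptOf_ptIdx]

/-- Fixed points of a conjugate. -/
theorem fix_conj (k g : Equiv.Perm GolayPt) :
    (Finset.univ.filter fun p => (k * g * k⁻¹) p = p) =
      k • (Finset.univ.filter fun p => g p = p) := by
  ext p
  rw [Finset.mem_smul_finset, Finset.mem_filter]
  constructor
  · rintro ⟨-, h⟩
    refine ⟨k.symm p, ?_, by simp⟩
    rw [Finset.mem_filter]
    refine ⟨Finset.mem_univ _, ?_⟩
    have h' : k (g (k.symm p)) = p := h
    have := congrArg k.symm h'
    simpa using this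
  · rintro ⟨q, hq, rfl⟩
    rw [Finset.mem_filter] at hq
    refine ⟨Finset.mem_univ _, ?_⟩
    show k (g (k.symm (k q))) = k q
    rw [Equiv.symm_apply_apply, hq.2]

end Cfsg.Agent.Lib.Helper9
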