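import Mathlib
import Cfsg.Prelude.Def_Sporadic_a

set_option autoImplicit false

namespace Cfsg.Agent.Lib.Helper9

/-- Index of a point of the projective line in `0..23`. -/
def ptIdx : Cfsg.GolayPt → ℕ
  | none => 23
  | some x => x.val

/-- The binary word of length 24 encoded by the bits of a natural number. -/
def wordOf (m : ℕ) : Cfsg.GolayPt → ZMod 2 := fun i => if m.testBit (ptIdx i) then 1 else 0

/-- A basis of the code, as bit masks. -/
def golayBasis : List ℕ := [5279, 10558, 18147, 36294, 69395, 133817, 262637, 525274, 1050548, 2101096, 4196943, 8391797]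

def cwAux : List ℕ → ℕ → ℕ → ℕ
  | [], _, _ => 0
  | g :: gs, j, n => (if n.testBit j then g else 0) ^^^ cwAux gs (j + 1) n

/-- The `n`-th codeword, as a bit mask. -/
def cw (n : ℕ) : ℕ := cwAux golayBasis 0 n

/-- The coefficients of the generators `qrWord t` in terms of the basis. -/
def genCoef : List ℕ := [83, 166, 332, 665, 1331, 614, 1229, 410, 821, 1643, 1239, 431, 863, 1726, 1404, 760, 1520, 993, 1986, 1925, 1802, 1556, 1065]

theorem wordOf_xor (a b : ℕ) : wordOf (a ^^^ b) = wordOf a + wordOf b := by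
  funext i
  simp only [wordOf, Nat.testBit_xor, Pi.add_apply]
  cases a.testBit (ptIdx i) <;> cases b.testBit (ptIdx i) <;> decide

theorem xor_four (g X Y : ℕ) (a b : Bool) :
    (if (a ^^ b) = true then g else 0) ^^^ (X ^^^ Y)
      = ((if a = true then g else 0) ^^^ X) ^^^ ((if b = true then g else 0) ^^^ Y) := by
  apply Nat.eq_of_testBit_eq
  intro i
  cases a <;> cases b <;> simp [Nat.testBit_xor] <;>
    cases g.testBit i <;> cases X.testBit i <;> cases Y.testBit i <;> rfl

theorem cwAux_xor (l : List ℕ) (j n n' : ℕ) :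
    cwAux l j (n ^^^ n') = cwAux l j n ^^^ cwAux l j n' := by
  induction l generalizing j with
  | nil => simp [cwAux]
  | cons g gs ih =>
    simp only [cwAux, ih, Nat.testBit_xor]
    exact xor_four g _ _ _ _

theorem cw_xor (n n' : ℕ) : cw (n ^^^ n') = cw n ^^^ cw n' := cwAux_xor _ _ _ _

/-- The code as an explicit submodule. -/
def codeSub : Submodule (ZMod 2) (Cfsg.GolayPt → ZMod 2) where
  carrier := {w | ∃ n : ℕ, n < 4096 ∧ w = wordOf (cw n)}
  add_mem' := by
    rintro _ _ ⟨n, hn, rfl⟩ ⟨n', hn', rfl⟩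
    exact ⟨n ^^^ n', Nat.xor_lt_two_pow (n := 12) hn hn', by rw [cw_xor, wordOf_xor]⟩
  zero_mem' := ⟨0, by norm_num, by funext i; simp [wordOf, cw, cwAux, golayBasis]⟩
  smul_mem' := by
    rintro c _ ⟨n, hn, rfl⟩
    have hc : c = 0 ∨ c = 1 := by revert c; decide
    rcases hc with rfl | rfl
    · rw [zero_smul]
      exact ⟨0, by norm_num, by funext i; simp [wordOf, cw, cwAux, golayBasis]⟩
    · rw [one_smul]
      exact ⟨n, hn, rfl⟩

theorem qrWord_eq : ∀ t : ZMod 23, genCoef.getD t.val 0 < 4096 ∧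
    Cfsg.qrWord t = wordOf (cw (genCoef.getD t.val 0)) := by
  decide +kernel

theorem one_eq : (1 : Cfsg.GolayPt → ZMod 2) = wordOf (cw 4095) := by
  decide +kernel

theorem golayCode_le_codeSub : Cfsg.golayCode ≤ codeSub := by
  apply Submodule.span_le.mpr
  rintro w (⟨t, rfl⟩ | hw)
  · exact ⟨_, (qrWord_eq t).1, (qrWord_eq t).2⟩
  · rw [Set.mem_singleton_iff] at hw
    subst hw
    exact ⟨4095, by norm_num, one_eq⟩

/-- Number of set bits among the lowest `k` bits. -/
def pc : ℕ → ℕ → ℕ
  | 0, _ => 0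
  | k + 1, m => (if m.testBit k then 1 else 0) + pc k m

theorem pc_eq_sum (k m : ℕ) : pc k m = ∑ i ∈ Finset.range k, (if m.testBit i then 1 else 0) := by
  induction k with
  | zero => simp [pc]
  | succ k ih => rw [pc, ih, Finset.sum_range_succ, add_comm]

theorem card_support_wordOf (m : ℕ) : (Cfsg.support₂ (wordOf m)).card = pc 24 m := by
  rw [pc_eq_sum, Cfsg.support₂, Finset.card_filter]
  have h1 : ∀ a : Cfsg.GolayPt, (if wordOf m a ≠ 0 then 1 else 0)
      = (if m.testBit (ptIdx a) then 1 else 0) := by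
    intro a
    by_cases h : m.testBit (ptIdx a) = true <;> simp [wordOf, h]
  simp_rw [h1]
  rw [Fintype.sum_option, Finset.sum_range_succ, add_comm]
  congr 1

def wtOK' (c : ℕ) : Bool :=
  c == 0 || c == 8 || c == 12 || c == 16 || c == 24

def wtOK (m : ℕ) : Bool := wtOK' (pc 24 m)

def checkAll : ℕ → Bool
  | 0 => true
  | k + 1 => wtOK (cw k) && checkAll k

theorem checkAll_true : checkAll 4096 = true := by decide +kernel

theorem wtOK_of_checkAll (k : ℕ) (h : checkAll k = true) : ∀ n, n < k → wtOK (cw n) = true := by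
  induction k with
  | zero => intro n hn; omega
  | succ k ih =>
    intro n hn
    rw [checkAll, Bool.and_eq_true] at h
    rcases Nat.lt_succ_iff_lt_or_eq.mp hn with h1 | h1
    · exact ih h.2 n h1
    · rw [h1]; exact h.1

theorem wtOK_cw (n : ℕ) (hn : n < 4096) : wtOK' (pc 24 (cw n)) = true :=
  wtOK_of_checkAll 4096 checkAll_true n hn

/-- Every word of the code has weight 0, 8, 12, 16 or 24. -/
theorem golay_weight (w : Cfsg.GolayPt → ZMod 2) (hw : w ∈ Cfsg.golayCode) :
    (Cfsg.support₂ w).card = 0 ∨ (Cfsg.support₂ w).card = 8 ∨ (Cfsg.support₂ w).card = 12 ∨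
      (Cfsg.support₂ w).card = 16 ∨ (Cfsg.support₂ w).card = 24 := by
  obtain ⟨n, hn, rfl⟩ := golayCode_le_codeSub hw
  have h := wtOK_cw n hn
  rw [card_support_wordOf]
  generalize pc 24 (cw n) = c at h
  simp only [wtOK', Bool.or_eq_true, beq_iff_eq] at h
  tauto

theorem one_mem_golayCode : (1 : Cfsg.GolayPt → ZMod 2) ∈ Cfsg.golayCode :=
  Submodule.subset_span (Or.inr rfl)

end Cfsg.Agent.Lib.Helper9
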