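import Mathlib
import Cfsg.Prelude.Def_Sporadic_a
import Cfsg.Agent.Lib.Helper9.Golay
import Cfsg.Agent.Lib.Helper9.CodeGen

set_option autoImplicit false

namespace Cfsg.Agent.Lib.Helper9

open Cfsg

/-- Xor of a list of natural numbers. -/
def xorList : List ℕ → ℕ
  | [] => 0
  | a :: l => a ^^^ xorList l

/-- How to write the unit vectors in terms of the coefficient vectors of the generators. -/
def unitCombo : List (List ℕ) :=
  [[83, 665, 1331, 1229, 821], [166, 1331, 614, 410, 1643], [83, 332, 665, 1331, 614, 1239],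
   [83, 665, 1331, 410, 1643], [83, 166, 665, 614, 1229, 1239], [332, 665, 614, 1229, 821, 1643],
   [83, 410, 821, 1643, 1239], [83, 614, 1229, 410, 821, 1239], [83, 614, 821], [166, 1229, 1643],
   [83, 332, 665, 1331, 1229, 410, 821, 1239], [166, 332, 1331, 410, 1643, 1239, 4095]]

theorem wordOf_zero : wordOf 0 = 0 := by
  funext i
  simp [wordOf]

theorem wordOf_cw_zero : wordOf (cw 0) = 0 := by
  funext i
  simp [wordOf, cw, cwAux, golayBasis]

theorem genCoef_mem : ∀ c ∈ genCoef ++ [4095], wordOf (cw c) ∈ golayCode := by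
  have h1 : ∀ c ∈ genCoef, ∃ t : ZMod 23, c = genCoef.getD t.val 0 := by decide
  intro c hc
  rw [List.mem_append] at hc
  rcases hc with hc | hc
  · obtain ⟨t, rfl⟩ := h1 c hc
    rw [← (qrWord_eq t).2]
    exact Submodule.subset_span (Or.inl ⟨t, rfl⟩)
  · rw [List.mem_singleton] at hc
    subst hc
    rw [← one_eq]
    exact one_mem_golayCode

theorem xorList_mem (l : List ℕ) (h : ∀ c ∈ l, wordOf (cw c) ∈ golayCode) :
    wordOf (cw (xorList l)) ∈ golayCode := by
  induction l with
  | nil => rw [xorList, wordOf_cw_zero]; exact Submodule.zero_mem _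
  | cons a l ih =>
    rw [xorList, cw_xor, wordOf_xor]
    exact Submodule.add_mem _ (h a (List.mem_cons_self ..))
      (ih (fun c hc => h c (List.mem_cons_of_mem _ hc)))

theorem basis_combo : ∀ g ∈ golayBasis, ∃ l ∈ unitCombo, g = cw (xorList l) ∧
    ∀ c ∈ l, c ∈ genCoef ++ [4095] := by
  decide +kernel

theorem basis_mem : ∀ g ∈ golayBasis, wordOf g ∈ golayCode := by
  intro g hg
  obtain ⟨l, _, rfl, hl⟩ := basis_combo g hg
  exact xorList_mem l (fun c hc => genCoef_mem c (hl c hc))

theorem cwAux_mem (l : List ℕ) (h : ∀ g ∈ l, wordOf g ∈ golayCode) (j n : ℕ) :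
    wordOf (cwAux l j n) ∈ golayCode := by
  induction l generalizing j with
  | nil => rw [cwAux, wordOf_zero]; exact Submodule.zero_mem _
  | cons g gs ih =>
    rw [cwAux, wordOf_xor]
    refine Submodule.add_mem _ ?_ (ih (fun c hc => h c (List.mem_cons_of_mem _ hc)) _)
    split_ifs
    · exact h g (List.mem_cons_self ..)
    · rw [wordOf_zero]; exact Submodule.zero_mem _

theorem wordOf_cw_mem (n : ℕ) : wordOf (cw n) ∈ golayCode := cwAux_mem _ basis_mem _ _

theorem mem_golayCode_iff (w : GolayPt → ZMod 2) :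
    w ∈ golayCode ↔ ∃ n : ℕ, n < 4096 ∧ w = wordOf (cw n) := by
  constructor
  · intro h; exact golayCode_le_codeSub h
  · rintro ⟨n, _, rfl⟩; exact wordOf_cw_mem n

theorem hammingNorm_eq_card_support₂ (w : GolayPt → ZMod 2) :
    hammingNorm w = (support₂ w).card := by
  unfold hammingNorm support₂
  congr

theorem golay_min : ∀ w ∈ golayCode, w ≠ 0 → 8 ≤ hammingNorm w := by
  intro w hw hw0
  have h := golay_weight w hw
  have h0 : hammingNorm w ≠ 0 := hammingNorm_ne_zero_iff.2 hw0
  rw [hammingNorm_eq_card_support₂] at h0 ⊢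
  omega

theorem golay_four_dvd : ∀ w ∈ golayCode, 4 ∣ hammingNorm w := by
  intro w hw
  have h := golay_weight w hw
  rw [hammingNorm_eq_card_support₂]
  omega

theorem golay_orth : ∀ v ∈ golayCode, ∀ w ∈ golayCode, ∑ i, v i * w i = 0 := by
  intro v hv w hw
  rw [Gen.dot_eq, ZMod.natCast_eq_zero_iff_even]
  have h1 := golay_four_dvd v hv
  have h2 := golay_four_dvd w hw
  have h3 := golay_four_dvd (v + w) (Submodule.add_mem _ hv hw)
  rw [Gen.hammingNorm_eq_card_sp] at h1 h2 h3
  have h4 := Gen.card_sp_add v w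
  obtain ⟨a, ha⟩ := h1
  obtain ⟨b, hb⟩ := h2
  obtain ⟨c, hc⟩ := h3
  exact ⟨a + b - c, by omega⟩

/-- Auxiliary check: the nonzero indices give nonzero words. -/
def checkNZ : ℕ → Bool
  | 0 => true
  | k + 1 => (k == 0 || pc 24 (cw k) != 0) && checkNZ k

theorem checkNZ_true : checkNZ 4096 = true := by decide +kernel

theorem nz_of_checkNZ (k : ℕ) (h : checkNZ k = true) :
    ∀ n, n < k → n ≠ 0 → pc 24 (cw n) ≠ 0 := by
  induction k with
  | zero => intro n hn; omega
  | succ k ih =>
    intro n hn hn0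
    rw [checkNZ, Bool.and_eq_true] at h
    rcases Nat.lt_succ_iff_lt_or_eq.mp hn with h1 | h1
    · exact ih h.2 n h1 hn0
    · subst h1
      have := h.1
      simp only [Bool.or_eq_true, beq_iff_eq, bne_iff_ne] at this
      rcases this with h0 | h0
      · exact absurd h0 hn0
      · exact h0

theorem wordOf_cw_eq_zero {n : ℕ} (hn : n < 4096) (h : wordOf (cw n) = 0) : n = 0 := by
  by_contra hn0
  have h1 := nz_of_checkNZ 4096 checkNZ_true n hn hn0
  rw [← card_support_wordOf, h] at h1
  apply h1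
  simp [support₂]

theorem wordOf_cw_injOn {n n' : ℕ} (hn : n < 4096) (hn' : n' < 4096)
    (h : wordOf (cw n) = wordOf (cw n')) : n = n' := by
  have h1 : wordOf (cw (n ^^^ n')) = 0 := by
    rw [cw_xor, wordOf_xor, h]
    funext i
    exact CharTwo.add_self_eq_zero _
  have h2 := wordOf_cw_eq_zero (Nat.xor_lt_two_pow (n := 12) hn hn') h1
  exact Nat.xor_eq_zero_iff.1 h2

theorem card_golayCode : Nat.card golayCode = 4096 := by
  have e : (golayCode : Set (GolayPt → ZMod 2)) =
      (fun n => wordOf (cw n)) '' (Finset.range 4096 : Set ℕ) := by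
    ext w
    rw [SetLike.mem_coe, mem_golayCode_iff, Set.mem_image]
    constructor
    · rintro ⟨n, hn, rfl⟩
      exact ⟨n, by simpa using hn, rfl⟩
    · rintro ⟨n, hn, rfl⟩
      exact ⟨n, by simpa using hn, rfl⟩
  have h1 : Nat.card golayCode = Set.ncard (golayCode : Set (GolayPt → ZMod 2)) := rfl
  rw [h1, e, Set.ncard_image_of_injOn, Set.ncard_coe_finset, Finset.card_range]
  intro n hn n' hn' h
  exact wordOf_cw_injOn (by simpa using hn) (by simpa using hn') h

theorem finrank_golayCode : Module.finrank (ZMod 2) golayCode = 12 := by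
  have h := Module.natCard_eq_pow_finrank (K := ZMod 2) (V := golayCode)
  rw [card_golayCode, Nat.card_zmod] at h
  have : (2 : ℕ) ^ 12 = 2 ^ Module.finrank (ZMod 2) golayCode := by
    rw [← h]; norm_num
  exact (Nat.pow_right_injective (le_refl 2) this).symm

end Cfsg.Agent.Lib.Helper9
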