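import Mathlib
import Cfsg.Prelude.Def_Sporadic_a
import Cfsg.Agent.Lib.Helper9.Golay2

set_option autoImplicit false

open scoped Pointwise

namespace Cfsg.Agent.Lib.Helper9

open Cfsg

/-- Bounded universal quantification as a boolean recursion. -/
def allBelow (p : ℕ → Bool) : ℕ → Bool
  | 0 => true
  | k + 1 => p k && allBelow p k

theorem allBelow_spec (p : ℕ → Bool) (k : ℕ) (h : allBelow p k = true) :
    ∀ n, n < k → p n = true := by
  induction k with
  | zero => intro n hn; omega
  | succ k ih =>
    intro n hn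
    rw [allBelow, Bool.and_eq_true] at h
    rcases Nat.lt_succ_iff_lt_or_eq.mp hn with h1 | h1
    · exact ih h.2 n h1
    · rw [h1]; exact h.1

theorem smul_support₂ (σ : Equiv.Perm GolayPt) (w : GolayPt → ZMod 2) :
    σ • support₂ w = support₂ (fun p => w (σ.symm p)) := by
  ext p
  rw [Finset.mem_smul_finset]
  unfold support₂
  simp only [Finset.mem_filter, Finset.mem_univ, true_and]
  constructor
  · rintro ⟨y, hy, rfl⟩
    rw [Equiv.Perm.smul_def, Equiv.symm_apply_apply]
    exact hy
  · intro h
    exact ⟨σ.symm p, h, by rw [Equiv.Perm.smul_def, Equiv.apply_symm_apply]⟩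

/-- A permutation that preserves the code in both directions lies in the code's group. -/
theorem mem_M24_of_preserves (σ : Equiv.Perm GolayPt)
    (h : ∀ w ∈ golayCode, (fun p => w (σ.symm p)) ∈ golayCode)
    (h' : ∀ w ∈ golayCode, (fun p => w (σ p)) ∈ golayCode) : σ ∈ M24 := by
  rw [MulAction.mem_stabilizer_iff]
  apply Set.Subset.antisymm
  · rintro x ⟨s, ⟨w, hw, rfl⟩, rfl⟩
    show σ • support₂ w ∈ _
    rw [smul_support₂]
    exact ⟨_, h w hw, rfl⟩
  · rintro x ⟨w, hw, rfl⟩
    refine ⟨support₂ (fun p => w (σ p)), ⟨_, h' w hw, rfl⟩, ?_⟩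
    show σ • support₂ (fun p => w (σ p)) = support₂ w
    rw [smul_support₂]
    simp

/-- Elements of the code's group preserve the code. -/
theorem preserves_of_mem_M24 (σ : Equiv.Perm GolayPt) (hσ : σ ∈ M24) (w : GolayPt → ZMod 2)
    (hw : w ∈ golayCode) : (fun p => w (σ.symm p)) ∈ golayCode := by
  rw [MulAction.mem_stabilizer_iff] at hσ
  have h1 : σ • support₂ w ∈ σ • supports (golayCode : Set (GolayPt → ZMod 2)) :=
    Set.smul_mem_smul_set ⟨w, hw, rfl⟩
  rw [hσ, smul_support₂] at h1
  obtain ⟨w', hw', he⟩ := h1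
  have : w' = fun p => w (σ.symm p) := by
    rw [Gen.support₂_eq_sp, Gen.support₂_eq_sp] at he
    exact Gen.sp_injective he
  rw [← this]
  exact hw'

theorem preserves_of_gens (σ : GolayPt → GolayPt)
    (h : ∀ t, (fun p => qrWord t (σ p)) ∈ golayCode) :
    ∀ w ∈ golayCode, (fun p => w (σ p)) ∈ golayCode := by
  intro w hw
  unfold golayCode at hw
  induction hw using Submodule.span_induction with
  | mem x hx =>
    rcases hx with ⟨t, rfl⟩ | hx
    · exact h t
    · rw [Set.mem_singleton_iff] at hx
      subst hx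
      exact one_mem_golayCode
  | zero => exact Submodule.zero_mem _
  | add x y _ _ hx hy => exact Submodule.add_mem _ hx hy
  | smul a x _ hx => exact Submodule.smul_mem _ a hx

/-- The translation `x ↦ x + 1` of the projective line. -/
def tau : Equiv.Perm GolayPt := Equiv.optionCongr (Equiv.addRight 1)

theorem qrWord_tau_symm : ∀ t : ZMod 23, (fun p => qrWord t (tau.symm p)) = qrWord (t + 1) := by
  decide +kernel

theorem qrWord_tau : ∀ t : ZMod 23, (fun p => qrWord t (tau p)) = qrWord (t - 1) := by
  decide +kernel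

theorem qrWord_mem (t : ZMod 23) : qrWord t ∈ golayCode := Submodule.subset_span (Or.inl ⟨t, rfl⟩)

theorem tau_symm_preserves : ∀ w ∈ golayCode, (fun p => w (tau.symm p)) ∈ golayCode :=
  preserves_of_gens _ (fun t => by rw [qrWord_tau_symm]; exact qrWord_mem _)

theorem tau_preserves : ∀ w ∈ golayCode, (fun p => w (tau p)) ∈ golayCode :=
  preserves_of_gens _ (fun t => by rw [qrWord_tau]; exact qrWord_mem _)

theorem tau_mem_M24 : tau ∈ M24 := mem_M24_of_preserves tau tau_symm_preserves tau_preserves

end Cfsg.Agent.Lib.Helper9
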