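import Mathlib
import Cfsg.Prelude.Def_Sporadic_a
import Cfsg.Agent.Lib.Helper9.GolayIrr

set_option autoImplicit false

open scoped Pointwise

namespace Cfsg.Agent.Lib.Helper9

open Cfsg

/-- The point with a given index. -/
def ptOf (i : ℕ) : GolayPt := if i < 23 then some (i : ZMod 23) else none

/-- The self-map of the 24 points given by a list of images of indices. -/
def listFun (l : List ℕ) : GolayPt → GolayPt := fun p => ptOf (l.getD (ptIdx p) 0)

/-- The permutation of the 24 points given by two mutually inverse lists. -/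
def listPerm (l l' : List ℕ)
    (h : ∀ p : GolayPt, listFun l' (listFun l p) = p ∧ listFun l (listFun l' p) = p) :
    Equiv.Perm GolayPt :=
  ⟨listFun l, listFun l', fun p => (h p).1, fun p => (h p).2⟩

theorem preserves_of_basis (σ : GolayPt → GolayPt) (cl : List ℕ) (hlen : cl.length = 12)
    (h : ∀ p ∈ golayBasis.zip (cl.map cw), (fun q => wordOf p.1 (σ q)) = wordOf p.2) :
    ∀ w ∈ golayCode, (fun q => w (σ q)) ∈ golayCode := by
  intro w hw
  obtain ⟨n, _, rfl⟩ := (mem_golayCode_iff w).1 hw
  have h1 := wordOf_cwAux_pairs σ (golayBasis.zip (cl.map cw)) h 0 n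
  have hl : golayBasis.length = 12 := by decide
  have e1 : (golayBasis.zip (cl.map cw)).map Prod.fst = golayBasis := by
    apply List.map_fst_zip
    rw [List.length_map, hlen, hl]
  have e2 : (golayBasis.zip (cl.map cw)).map Prod.snd = cl.map cw := by
    apply List.map_snd_zip
    rw [List.length_map, hlen, hl]
  rw [e1, e2, ← cwAux_map_cw] at h1
  show (fun q => wordOf (cwAux golayBasis 0 n) (σ q)) ∈ golayCode
  rw [h1]
  exact wordOf_cw_mem _

theorem preserves_symm (σ : Equiv.Perm GolayPt)
    (h : ∀ w ∈ golayCode, (fun q => w (σ q)) ∈ golayCode) :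
    ∀ w ∈ golayCode, (fun q => w (σ.symm q)) ∈ golayCode := by
  let Φ : golayCode → golayCode := fun w => ⟨fun q => w.1 (σ q), h w.1 w.2⟩
  have hinj : Function.Injective Φ := by
    intro w w' hww
    apply Subtype.ext
    funext q
    have := congrFun (congrArg Subtype.val hww) (σ.symm q)
    simpa [Φ] using this
  have hsurj := Finite.surjective_of_injective hinj
  intro w hw
  obtain ⟨w', hw'⟩ := hsurj ⟨w, hw⟩
  have e : (fun q => w (σ.symm q)) = w'.1 := by
    funext q
    have := congrFun (congrArg Subtype.val hw') (σ.symm q)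
    simp only [Φ, Equiv.apply_symm_apply] at this
    exact this.symm
  rw [e]
  exact w'.2

theorem mem_M24_of_preserves' (σ : Equiv.Perm GolayPt)
    (h : ∀ w ∈ golayCode, (fun q => w (σ q)) ∈ golayCode) : σ ∈ M24 :=
  mem_M24_of_preserves σ (preserves_symm σ h) h

theorem mem_M24_of_basis (σ : Equiv.Perm GolayPt) (cl : List ℕ) (hlen : cl.length = 12)
    (h : ∀ p ∈ golayBasis.zip (cl.map cw), (fun q => wordOf p.1 (σ q)) = wordOf p.2) :
    σ ∈ M24 :=
  mem_M24_of_preserves' σ (preserves_of_basis σ cl hlen h)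

/-- A permutation stabilizes a finite set iff it maps members to members and non-members to
non-members. -/
theorem smul_finset_eq_iff (y : Equiv.Perm GolayPt) (D : Finset GolayPt) :
    y • D = D ↔ ∀ p, y p ∈ D ↔ p ∈ D := by
  constructor
  · intro h p
    have : y • p ∈ y • D ↔ p ∈ D := Finset.smul_mem_smul_finset_iff y
    rw [h] at this
    exact this
  · intro h
    ext q
    rw [← Finset.inv_smul_mem_iff]
    have := h (y⁻¹ • q)
    rw [← this]
    simp

/-- Multiplication by 2 on the projective line. -/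
def mu : Equiv.Perm GolayPt :=
  listPerm [0, 2, 4, 6, 8, 10, 12, 14, 16, 18, 20, 22, 1, 3, 5, 7, 9, 11, 13, 15, 17, 19, 21, 23]
    [0, 12, 1, 13, 2, 14, 3, 15, 4, 16, 5, 17, 6, 18, 7, 19, 8, 20, 9, 21, 10, 22, 11, 23]
    (by decide +kernel)

theorem mu_mem_M24 : mu ∈ M24 :=
  mem_M24_of_basis mu [11, 103, 29, 169, 49, 318, 14, 539, 28, 1078, 51, 2084] rfl
    (by decide +kernel)

/-- An element of the code's group preserving the dodecad of squares, fixing the extra point
and moving the residue 0. -/
def hZero : Equiv.Perm GolayPt :=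
  listPerm [9, 2, 18, 8, 12, 15, 1, 21, 6, 3, 5, 14, 13, 16, 7, 11, 4, 19, 0, 17, 20, 22, 10, 23]
    [18, 6, 1, 9, 16, 10, 8, 14, 3, 0, 22, 15, 4, 12, 11, 5, 13, 19, 2, 17, 20, 7, 21, 23]
    (by decide +kernel)

theorem hZero_mem_M24 : hZero ∈ M24 :=
  mem_M24_of_basis hZero [1108, 25, 1092, 1036, 1114, 220, 68, 52, 1300, 1032, 584, 3160] rfl
    (by decide +kernel)

theorem projInv_mem_M24 : projInv ∈ M24 :=
  mem_M24_of_basis projInv [3642, 1320, 3282, 1426, 3376, 2090, 2446, 1450, 306, 409, 3208, 2224]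
    rfl (by decide +kernel)

theorem cubeTwist_mem_M24 : cubeTwist ∈ M24 :=
  mem_M24_of_basis cubeTwist [320, 113, 1282, 297, 355, 102, 1, 67, 835, 291, 162, 2400] rfl
    (by
      have : ∀ p ∈ golayBasis.zip
          ([320, 113, 1282, 297, 355, 102, 1, 67, 835, 291, 162, 2400].map cw),
          (fun q => wordOf p.1 (cubeTwistFun q)) = wordOf p.2 := by decide +kernel
      exact this)

end Cfsg.Agent.Lib.Helper9
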