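import Mathlib
import Cfsg.Prelude.Def_Sporadic_a
import Cfsg.Prelude.Def_SporadicCombinatorics
import Cfsg.Agent.Lib.Helper9.M24Syl

set_option autoImplicit false

open scoped Pointwise

namespace Cfsg.Agent.Lib.Helper9

open Cfsg

/-- Sylow inside a subgroup of known order: a `p`-subgroup is conjugate into a subgroup of the
full `p`-power order. -/
theorem exists_conj_le_gen (K : Subgroup (Equiv.Perm GolayPt)) (cardK : ℕ)
    (hK : Nat.card K = cardK) (P : Subgroup (Equiv.Perm GolayPt)) (hP : P ≤ K) (p n : ℕ)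
    [hp : Fact p.Prime] (hcard : Nat.card P = p ^ n)
    (hfac : cardK.factorization p = n)
    (X : Subgroup ↥K) (hX : IsPGroup p X) :
    ∃ k : ↥K, ∀ x ∈ X,
      (k : Equiv.Perm GolayPt) * (x : Equiv.Perm GolayPt) * (k : Equiv.Perm GolayPt)⁻¹ ∈ P := by
  have hc : Nat.card (P.subgroupOf K) = p ^ (Nat.card ↥K).factorization p := by
    rw [hK, hfac, ← hcard]
    exact Nat.card_congr (Subgroup.subgroupOfEquivOfLe hP).toEquiv
  let S : Sylow p ↥K := Sylow.ofCard (P.subgroupOf K) hc
  obtain ⟨Q, hQ⟩ := hX.exists_le_sylow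
  obtain ⟨k, hk⟩ := MulAction.exists_smul_eq ↥K Q S
  refine ⟨k, fun x hx => ?_⟩
  have h1 : x ∈ (Q : Subgroup ↥K) := hQ hx
  have h2 : k * x * k⁻¹ ∈ ((k • Q : Sylow p ↥K) : Subgroup ↥K) := by
    rw [Sylow.coe_subgroup_smul]
    exact Subgroup.smul_mem_pointwise_smul x (MulAut.conj k) _ h1
  rw [hk] at h2
  exact Subgroup.mem_subgroupOf.mp h2

/-- Sylow inside a subgroup of known order, for elements. -/
theorem exists_conj_mem_gen (K : Subgroup (Equiv.Perm GolayPt)) (cardK : ℕ)
    (hK : Nat.card K = cardK) (P : Subgroup (Equiv.Perm GolayPt)) (hP : P ≤ K) (p n m : ℕ)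
    [hp : Fact p.Prime] (hcard : Nat.card P = p ^ n)
    (hfac : cardK.factorization p = n)
    (g : Equiv.Perm GolayPt) (hg : g ∈ K) (ho : orderOf g = p ^ m) :
    ∃ k ∈ K, k * g * k⁻¹ ∈ P := by
  have hX : IsPGroup p (Subgroup.zpowers (⟨g, hg⟩ : ↥K)) := by
    apply IsPGroup.of_card (n := m)
    rw [Nat.card_zpowers, ← ho]
    exact Subgroup.orderOf_mk g hg
  obtain ⟨k, hk⟩ := exists_conj_le_gen K cardK hK P hP p n hcard hfac _ hX
  exact ⟨k.1, k.2, hk ⟨g, hg⟩ (Subgroup.mem_zpowers _)⟩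

/-- Fixed-point counts are invariant under conjugation. -/
theorem card_fix_conj (k g : Equiv.Perm GolayPt) :
    (Finset.univ.filter fun p => (k * g * k⁻¹) p = p).card =
      (Finset.univ.filter fun p => g p = p).card := by
  rw [fix_conj, Finset.card_smul_finset]

theorem card_fix_of_conj {k g r : Equiv.Perm GolayPt} (h : k * g * k⁻¹ = r) :
    (Finset.univ.filter fun p => g p = p).card = (Finset.univ.filter fun p => r p = p).card := by
  rw [← h, card_fix_conj]

end Cfsg.Agent.Lib.Helper9
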