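import Mathlib
import Cfsg.Prelude.Def_Sporadic_a
import Cfsg.Prelude.Def_SporadicCombinatorics
import Cfsg.Agent.Lib.Helper9.M24Conj
import Cfsg.Agent.Lib.Helper9.M24Inv
import Cfsg.Agent.Lib.Helper9.M24Tab
import Cfsg.Agent.Lib.Helper9.M24Syl2

set_option autoImplicit false

open scoped Pointwise

namespace Cfsg.Agent.Lib.Helper9

open Cfsg

/-- A fixed-point-free involution adapted to the base sextet. -/
def tB : List ℕ := [2, 3, 0, 1, 7, 23, 22, 4, 16, 11, 12, 9, 10, 18, 17, 19, 8, 14, 13, 15, 21, 20, 6, 5]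

/-- A conjugator from the representative `repB`. -/
def cB : List ℕ := [5, 2, 3, 14, 6, 1, 11, 9, 16, 10, 12, 7, 4, 13, 17, 8, 21, 0, 19, 20, 15, 18, 22, 23]

theorem tB_M24 : isM24L tB = true := by decide +kernel

theorem cB_M24 : isM24L cB = true := by decide +kernel

theorem cB_conj : permL cB * permL repB * (permL cB)⁻¹ = permL tB :=
  permL_conj (isPermL_of_isM24L cB_M24) (isPermL_of_isM24L repB_M24) (isPermL_of_isM24L tB_M24)
    (by decide +kernel)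

def zB_X : ℕ := 0x8ae95836f34164ab30cf225c7004438ae4d7d6e899687b10d0625ca080628a695436ef8164431ed352dcc080628a5b2852f3416a7312cf62dca10c0189a4d456ef8168a4b173259c710c01899b27d2e8996a449d70559cc0044372e4d454af85e84b1cd35262c0044372db27d0a89deaab30d02262710c01726957b4a89de47312d062e2a004437264d854b345e8a332cf22e270806271a95834b345e4449d6f55a2c10c01719b2450af85ea74917365a2a080622ae95435cf84647b10d3626ea10c012adb2851d3446a4b1ccf526ec080622a64d7d5c89c68431ed052eec10c012a5b2451cf846aa332d322ee70044329a957b5c89c64a4b17025ae70806229a4d855d3446874916f65aea00443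

def zB_P : ℕ := 0x400000102000802000101000e00000600000201000400000c02000402000301001000000301000102001000000e00000100000a

def zB_D : ℕ := 0x20103010203030204020302030102020003

def zB_levels : List (ℕ × List (List ℕ)) :=
  [(0, [[0, 1, 2, 3, 4, 5, 6, 7, 8, 9, 10, 11, 12, 13, 14, 15, 16, 17, 18, 19, 20, 21, 22, 23],
      [1, 2, 3, 0, 15, 12, 6, 19, 18, 11, 16, 9, 8, 17, 4, 21, 13, 7, 14, 20, 23, 5, 22, 10],
      [2, 1, 0, 3, 16, 5, 18, 8, 6, 20, 15, 21, 19, 4, 17, 9, 22, 14, 7, 11, 10, 12, 13, 23],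
      [3, 2, 1, 0, 11, 23, 7, 9, 18, 10, 6, 12, 22, 8, 17, 20, 13, 14, 16, 21, 19, 15, 4, 5],
      [4, 10, 7, 12, 5, 19, 22, 23, 18, 11, 14, 9, 17, 3, 16, 20, 13, 8, 1, 21, 0, 2, 6, 15],
      [5, 14, 23, 17, 11, 20, 19, 9, 7, 8, 6, 16, 22, 3, 18, 12, 4, 13, 1, 10, 0, 2, 15, 21],
      [6, 9, 22, 11, 20, 16, 14, 21, 12, 5, 13, 23, 18, 1, 15, 4, 10, 19, 3, 7, 0, 2, 17, 8],
      [7, 12, 4, 10, 20, 9, 16, 21, 14, 15, 18, 19, 13, 1, 22, 5, 17, 6, 3, 23, 2, 0, 8, 11],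
      [8, 19, 16, 15, 10, 20, 22, 12, 17, 9, 7, 11, 4, 1, 13, 5, 14, 18, 3, 23, 0, 2, 6, 21],
      [9, 22, 11, 6, 23, 20, 4, 5, 15, 12, 17, 10, 14, 3, 18, 8, 19, 13, 1, 16, 0, 2, 7, 21],
      [10, 4, 12, 7, 23, 15, 22, 5, 20, 11, 17, 9, 14, 3, 8, 18, 21, 16, 1, 13, 0, 2, 6, 19],
      [11, 6, 9, 22, 14, 13, 4, 17, 19, 12, 5, 10, 23, 3, 21, 16, 15, 20, 1, 8, 0, 2, 7, 18],
      [12, 7, 10, 4, 21, 11, 16, 20, 5, 15, 13, 19, 18, 1, 6, 14, 23, 22, 3, 17, 2, 0, 8, 9],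
      [13, 21, 18, 20, 8, 1, 7, 16, 22, 10, 15, 12, 19, 14, 0, 9, 6, 2, 17, 11, 23, 5, 4, 3],
      [14, 5, 17, 23, 22, 18, 8, 6, 7, 19, 9, 15, 11, 3, 20, 12, 4, 21, 1, 10, 0, 2, 16, 13],
      [15, 8, 19, 16, 6, 12, 14, 22, 13, 23, 11, 5, 9, 3, 7, 21, 18, 4, 1, 20, 0, 2, 17, 10],
      [16, 15, 8, 19, 4, 18, 22, 7, 14, 9, 12, 11, 10, 1, 21, 23, 17, 20, 3, 5, 0, 2, 6, 13],
      [17, 5, 14, 23, 13, 7, 6, 18, 8, 11, 20, 9, 21, 3, 10, 19, 16, 12, 1, 15, 2, 0, 22, 4],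
      [18, 21, 13, 20, 9, 15, 4, 11, 17, 10, 6, 12, 22, 1, 16, 5, 14, 8, 3, 23, 0, 2, 7, 19],
      [19, 8, 15, 16, 7, 20, 6, 4, 14, 11, 10, 9, 12, 1, 13, 23, 17, 18, 3, 5, 0, 2, 22, 21],
      [20, 18, 21, 13, 16, 2, 4, 8, 22, 12, 19, 10, 15, 14, 3, 9, 6, 1, 17, 11, 23, 5, 7, 0],
      [21, 18, 20, 13, 11, 19, 4, 9, 5, 10, 22, 12, 6, 1, 8, 17, 23, 16, 3, 14, 0, 2, 7, 15],
      [22, 9, 6, 11, 5, 21, 4, 23, 8, 12, 14, 10, 17, 3, 13, 15, 16, 18, 1, 19, 0, 2, 7, 20],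
      [23, 17, 5, 14, 6, 21, 16, 22, 7, 15, 11, 19, 9, 3, 13, 12, 4, 18, 1, 10, 0, 2, 8, 20]]),
   (4, [[0, 1, 2, 3, 4, 5, 6, 7, 8, 9, 10, 11, 12, 13, 14, 15, 16, 17, 18, 19, 20, 21, 22, 23],
      [0, 3, 2, 1, 5, 13, 22, 23, 4, 9, 17, 11, 14, 8, 20, 12, 7, 21, 16, 10, 15, 19, 6, 18],
      [0, 1, 2, 3, 6, 16, 21, 22, 7, 18, 11, 13, 9, 14, 19, 12, 4, 15, 17, 10, 23, 5, 20, 8],
      [0, 1, 2, 3, 7, 13, 19, 4, 6, 8, 12, 16, 10, 14, 21, 11, 22, 20, 17, 9, 23, 5, 15, 18],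
      [0, 3, 2, 1, 8, 10, 6, 16, 18, 11, 19, 9, 15, 14, 7, 21, 13, 4, 17, 20, 5, 23, 22, 12],
      [0, 3, 2, 1, 9, 20, 5, 11, 16, 14, 6, 17, 22, 4, 13, 15, 8, 18, 7, 19, 10, 12, 23, 21],
      [0, 3, 2, 1, 10, 15, 5, 12, 13, 14, 7, 17, 4, 22, 16, 20, 18, 8, 6, 21, 9, 11, 23, 19],
      [0, 3, 2, 1, 11, 13, 17, 9, 8, 23, 22, 5, 6, 4, 20, 19, 16, 21, 7, 15, 10, 12, 14, 18],
      [0, 1, 2, 3, 12, 21, 15, 10, 6, 16, 7, 8, 4, 17, 13, 11, 22, 18, 14, 9, 5, 23, 19, 20],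
      [0, 3, 2, 1, 13, 5, 19, 18, 4, 16, 20, 8, 21, 11, 17, 12, 7, 14, 9, 10, 6, 22, 15, 23],
      [0, 3, 2, 1, 14, 21, 11, 17, 4, 6, 23, 22, 5, 19, 18, 12, 7, 13, 15, 10, 16, 8, 9, 20],
      [0, 1, 2, 3, 15, 13, 4, 19, 17, 12, 8, 10, 16, 22, 21, 23, 14, 20, 6, 5, 11, 9, 7, 18],
      [0, 1, 2, 3, 16, 20, 10, 8, 17, 7, 19, 4, 15, 9, 18, 23, 14, 13, 11, 5, 6, 22, 12, 21],
      [0, 3, 2, 1, 17, 15, 7, 14, 22, 12, 5, 10, 23, 13, 16, 11, 6, 8, 18, 9, 21, 20, 4, 19],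
      [0, 1, 2, 3, 18, 8, 22, 13, 14, 11, 20, 9, 21, 10, 15, 5, 17, 19, 12, 23, 7, 4, 6, 16],
      [0, 1, 2, 3, 19, 18, 12, 15, 17, 4, 16, 7, 8, 11, 20, 23, 14, 21, 9, 5, 22, 6, 10, 13],
      [0, 1, 2, 3, 20, 15, 6, 21, 14, 9, 18, 11, 13, 12, 8, 5, 17, 16, 10, 23, 4, 7, 22, 19],
      [0, 1, 2, 3, 21, 19, 9, 20, 14, 6, 13, 22, 18, 4, 16, 5, 17, 8, 7, 23, 12, 10, 11, 15],
      [0, 1, 2, 3, 22, 5, 7, 6, 18, 10, 9, 12, 11, 16, 14, 20, 13, 17, 8, 21, 15, 19, 4, 23],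
      [0, 3, 2, 1, 23, 18, 9, 5, 4, 22, 14, 6, 17, 15, 21, 12, 7, 20, 19, 10, 8, 16, 11, 13]]),
   (1, [[0, 1, 2, 3, 4, 5, 6, 7, 8, 9, 10, 11, 12, 13, 14, 15, 16, 17, 18, 19, 20, 21, 22, 23],
      [0, 3, 2, 1, 4, 15, 14, 7, 18, 5, 12, 23, 10, 6, 16, 21, 13, 8, 22, 20, 11, 9, 17, 19]]),
   (5, [[0, 1, 2, 3, 4, 5, 6, 7, 8, 9, 10, 11, 12, 13, 14, 15, 16, 17, 18, 19, 20, 21, 22, 23],
      [0, 1, 2, 3, 4, 13, 15, 7, 11, 16, 10, 8, 12, 5, 21, 6, 9, 20, 23, 22, 17, 14, 19, 18],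
      [0, 1, 2, 3, 4, 14, 9, 7, 19, 6, 10, 22, 12, 21, 5, 16, 15, 23, 20, 8, 18, 13, 11, 17],
      [0, 1, 2, 3, 4, 17, 22, 7, 16, 11, 10, 9, 12, 20, 23, 19, 8, 5, 21, 15, 13, 18, 6, 14],
      [0, 1, 2, 3, 4, 18, 8, 7, 6, 19, 10, 15, 12, 23, 20, 11, 22, 21, 5, 9, 14, 17, 16, 13],
      [0, 1, 2, 3, 4, 20, 19, 7, 9, 8, 10, 16, 12, 17, 18, 22, 11, 13, 14, 6, 5, 23, 15, 21],
      [0, 1, 2, 3, 4, 21, 16, 7, 22, 15, 10, 19, 12, 14, 13, 9, 6, 18, 17, 11, 23, 5, 8, 20],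
      [0, 1, 2, 3, 4, 23, 11, 7, 15, 22, 10, 6, 12, 18, 17, 8, 19, 14, 13, 16, 21, 20, 9, 5]])]

set_option maxHeartbeats 40000000 in
theorem zB : (orbS Ksex (⟨permL tB⟩ : CP)).ncard = 18 ∧
    Nat.card ↥(Ksex ⊓ MulAction.stabilizer (Equiv.Perm GolayPt) (⟨permL tB⟩ : CP)) = 7680 := by
  have h := orbC_exact Ksex 138240 card_Ksex (fun l => sameSet (S0l.map (actM l 0)) S0l) memKsex
    gensKsex gensKsex_ok zB_X zB_P zB_D 18 1 tB (by decide) (by decide +kernel)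
    (by decide +kernel) (by decide +kernel) zB_levels (by decide +kernel) (by decide +kernel)
  have e : chainProd zB_levels = 7680 := by decide +kernel
  rw [e] at h
  exact h

noncomputable def KzB : Subgroup (Equiv.Perm GolayPt) :=
  Ksex ⊓ MulAction.stabilizer (Equiv.Perm GolayPt) (⟨permL tB⟩ : CP)

theorem card_KzB : Nat.card KzB = 7680 := zB.2

theorem memKzB (l : List ℕ) (hl : isM24L l = true) (h : (sameSet (S0l.map (actM l 0)) S0l && compL l tB == compL tB l) = true) :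
    permL l ∈ KzB :=
  memCent Ksex (fun l => sameSet (S0l.map (actM l 0)) S0l) memKsex tB (by decide) l hl h

def gensKzB : List (List ℕ) :=
  [[5, 17, 23, 14, 2, 20, 4, 0, 9, 10, 1, 12, 3, 8, 13, 6, 11, 18, 16, 22, 15, 19, 7, 21],
   [2, 3, 0, 1, 13, 15, 22, 18, 14, 11, 21, 9, 20, 4, 8, 5, 17, 16, 7, 23, 12, 10, 6, 19],
   [1, 2, 3, 0, 14, 21, 9, 17, 10, 22, 23, 6, 5, 15, 18, 7, 12, 13, 19, 4, 8, 16, 11, 20]]

theorem gensKzB_ok : gensKzB.all (fun l => isM24L l && (sameSet (S0l.map (actM l 0)) S0l && compL l tB == compL tB l)) = true := by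
  decide +kernel

/-- Sextets all of whose tetrads are fixed by `tB`. -/
theorem tB_sext_unique :
    {S : Finset (Finset GolayPt) | S ∈ sextets ∧ ∀ s ∈ S, permL tB • s = s}.ncard = 1 := by
  have hinj := tableK_inj 6 sexA_X 1771 776 gensM sexA_P sexA_D sexA_schr sexA_mono
  have hS := mem_iff_table sextets sextets_finite 1771 (fun i => obj (decK 6 sexA_X i))
    (fun i hi => by rw [← sextets_eq_orbit]; exact sexA_mem i hi) hinj (by rw [ncard_sextets])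
  have hp := isPermL_of_isM24L tB_M24
  have := ncard_filter_table sextets 1771 (fun i => obj (decK 6 sexA_X i)) (fun _ => true) hS hinj
    (fun S => ∀ s ∈ S, permL tB • s = s)
    (fun i => (decK 6 sexA_X i).all (fun m => actM tB 0 m == m))
    (fun i _ _ => by
      rw [List.all_eq_true]
      constructor
      · intro h s hs
        obtain ⟨m, hm, rfl⟩ := mem_obj.mp hs
        have := h m hm
        rw [beq_iff_eq] at this
        rw [permL_smul_mset hp, this]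
      · intro h m hm
        rw [beq_iff_eq]
        exact (smul_mset_eq_iff hp (decK_lt 6 sexA_X i m hm)).mp (h _ (mem_obj.mpr ⟨m, hm, rfl⟩)))
  rw [this]
  decide +kernel

theorem tB_S0 : ∀ s ∈ obj S0l, permL tB • s = s := by
  intro s hs
  obtain ⟨m, hm, rfl⟩ := mem_obj.mp hs
  rw [permL_smul_mset (isPermL_of_isM24L tB_M24)]
  have h : S0l.all (fun m => actM tB 0 m == m) = true := by decide +kernel
  rw [List.all_eq_true] at h
  have := h m hm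
  rw [beq_iff_eq] at this
  rw [this]

/-- Elements of the code's group commuting with `tB` stabilise the base sextet. -/
theorem comm_stab_S0 (c : Equiv.Perm GolayPt) (hc : c ∈ M24) (h : c * permL tB = permL tB * c) :
    c • obj S0l = obj S0l := by
  obtain ⟨a, ha⟩ := Set.ncard_eq_one.mp tB_sext_unique
  have h1 : obj S0l ∈ {S : Finset (Finset GolayPt) | S ∈ sextets ∧ ∀ s ∈ S, permL tB • s = s} :=
    ⟨mem_sextets_S0, tB_S0⟩
  have h2 : c • obj S0l ∈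
      {S : Finset (Finset GolayPt) | S ∈ sextets ∧ ∀ s ∈ S, permL tB • s = s} := by
    refine ⟨smul_mem_sextets hc mem_sextets_S0, ?_⟩
    intro s hs
    obtain ⟨s', hs', rfl⟩ := Finset.mem_smul_finset.mp hs
    rw [← mul_smul, ← h, mul_smul, tB_S0 s' hs']
  rw [ha] at h1 h2
  rw [Set.mem_singleton_iff] at h1 h2
  exact h2.trans h1.symm

theorem mem_KzB_iff (c : Equiv.Perm GolayPt) :
    c ∈ KzB ↔ c ∈ M24 ∧ c * permL tB = permL tB * c := by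
  constructor
  · intro h
    exact ⟨h.1.1, mem_stab_CP.mp h.2⟩
  · rintro ⟨hc, h⟩
    exact ⟨⟨hc, comm_stab_S0 c hc h⟩, mem_stab_CP.mpr h⟩

theorem card_cent_tB :
    Nat.card {c : Equiv.Perm GolayPt // c ∈ M24 ∧ c * permL tB = permL tB * c} = 7680 := by
  rw [← card_KzB]
  exact Nat.card_congr (Equiv.subtypeEquivRight (fun c => (mem_KzB_iff c).symm))

/-- An element of order 3 centralising `tB`, and its square. -/
def x3Z : List (List ℕ) :=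
  [idL, [6, 11, 22, 9, 15, 2, 23, 19, 20, 14, 8, 17, 16, 7, 3, 18, 21, 1, 4, 13, 10, 12, 5, 0], [23, 17, 5, 14, 18, 22, 0, 13, 10, 3, 20, 1, 21, 19, 9, 4, 12, 11, 15, 7, 8, 16, 2, 6]]

theorem x3Z_ok : listOK x3Z = true := by decide +kernel

theorem x3Z_chk : x3Z.all (fun l => isM24L l && (sameSet (S0l.map (actM l 0)) S0l && compL l tB == compL tB l)) = true := by decide +kernel

theorem x3Z_fpf : x3Z.all (fun l => l == idL ||
    (List.range 24).all (fun i => l.getD i 0 != i)) = true := by decide +kernel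

theorem fac3Z : (7680 : ℕ).factorization 3 = 1 := by
  have e : (7680 : ℕ) = 3 ^ 1 * 2560 := by norm_num
  rw [e, Nat.factorization_mul (by norm_num) (by norm_num),
    Nat.Prime.factorization_pow Nat.prime_three]
  simp [Nat.factorization_eq_zero_of_not_dvd (by norm_num : ¬ 3 ∣ 2560)]

/-- Elements of order 3 commuting with `tB` have no fixed points. -/
theorem three_cent_fpf (x : Equiv.Perm GolayPt) (hx : x ∈ KzB) (h3 : orderOf x = 3) :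
    ∀ p, x p ≠ p := by
  haveI : Fact (Nat.Prime 3) := ⟨Nat.prime_three⟩
  have hle : listSub x3Z x3Z_ok ≤ KzB := by
    rintro g ⟨l, hl, rfl⟩
    have h := x3Z_chk
    rw [List.all_eq_true] at h
    have h' := h l hl
    rw [Bool.and_eq_true] at h'
    exact memKzB l h'.1 h'.2
  obtain ⟨k, hk, hmem⟩ := exists_conj_mem_gen KzB 7680 card_KzB (listSub x3Z x3Z_ok) hle 3 1 1
    (by rw [card_listSub x3Z x3Z_ok (by decide)]; rfl) fac3Z x hx (by rw [h3]; norm_num)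
  obtain ⟨l, hl, he⟩ := hmem
  have hne : x ≠ 1 := by
    intro h1
    rw [h1, orderOf_one] at h3
    norm_num at h3
  have hl1 : l ≠ idL := by
    intro h
    rw [h, permL_idL] at he
    apply hne
    have : x = k⁻¹ * (k * x * k⁻¹) * k := by group
    rw [this, he]; group
  have hf := x3Z_fpf
  rw [List.all_eq_true] at hf
  have hf' := hf l hl
  simp only [Bool.or_eq_true, beq_iff_eq, List.all_eq_true, List.mem_range, bne_iff_ne] at hf'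
  rcases hf' with h | h
  · exact absurd h hl1
  · intro p hp
    have hlp := listOK_perm x3Z_ok l hl
    have h1 : permL l (k p) = k p := by
      rw [← he]
      simp [hp]
    rw [permL_apply hlp] at h1
    unfold listFun at h1
    have h2 := congrArg ptIdx h1
    rw [ptIdx_ptOf (getD_lt_of_isPermL hlp (ptIdx_lt _))] at h2
    exact h (ptIdx (k p)) (ptIdx_lt _) h2

/-- Elements of the centraliser of `tB` moving the first point to each point. -/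
def trZ : List (List ℕ) :=
  [[0, 1, 2, 3, 4, 5, 6, 7, 8, 9, 10, 11, 12, 13, 14, 15, 16, 17, 18, 19, 20, 21, 22, 23],
   [1, 2, 3, 0, 23, 13, 22, 5, 7, 9, 14, 11, 17, 15, 20, 10, 4, 21, 19, 12, 8, 16, 6, 18],
   [2, 1, 0, 3, 23, 19, 12, 5, 11, 7, 14, 4, 17, 20, 8, 22, 9, 16, 21, 6, 18, 13, 10, 15],
   [3, 2, 1, 0, 16, 11, 14, 8, 7, 23, 19, 5, 15, 20, 6, 12, 4, 22, 21, 10, 13, 18, 17, 9],
   [4, 10, 7, 12, 2, 21, 11, 0, 16, 22, 3, 6, 1, 5, 13, 19, 8, 18, 23, 15, 17, 14, 9, 20],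
   [5, 17, 23, 14, 2, 20, 4, 0, 9, 10, 1, 12, 3, 8, 13, 6, 11, 18, 16, 22, 15, 19, 7, 21],
   [6, 11, 22, 9, 2, 8, 4, 0, 13, 12, 3, 10, 1, 23, 15, 21, 18, 19, 5, 20, 14, 17, 7, 16],
   [7, 12, 4, 10, 2, 20, 11, 0, 15, 22, 3, 6, 1, 17, 18, 8, 19, 13, 14, 16, 5, 23, 9, 21],
   [8, 15, 16, 19, 2, 6, 4, 0, 23, 12, 3, 10, 1, 13, 11, 17, 5, 9, 18, 14, 20, 21, 7, 22],
   [9, 6, 11, 22, 2, 20, 19, 0, 5, 16, 1, 8, 3, 12, 13, 17, 23, 18, 10, 14, 7, 4, 15, 21],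
   [10, 4, 12, 7, 2, 14, 19, 0, 22, 8, 3, 16, 1, 20, 5, 9, 6, 23, 21, 11, 13, 18, 15, 17],
   [11, 6, 9, 22, 2, 15, 4, 0, 18, 12, 3, 10, 1, 5, 8, 20, 13, 16, 23, 21, 17, 14, 7, 19],
   [12, 7, 10, 4, 2, 17, 19, 0, 11, 8, 3, 16, 1, 13, 23, 6, 9, 5, 18, 22, 20, 21, 15, 14],
   [13, 20, 18, 21, 2, 17, 4, 0, 16, 10, 1, 12, 3, 11, 5, 15, 8, 23, 9, 19, 6, 22, 7, 14],
   [14, 5, 17, 23, 2, 10, 19, 0, 20, 8, 3, 16, 1, 22, 4, 18, 21, 7, 6, 13, 11, 9, 15, 12],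
   [15, 8, 19, 16, 2, 11, 4, 0, 5, 12, 3, 10, 1, 18, 6, 14, 23, 22, 13, 17, 21, 20, 7, 9],
   [16, 19, 8, 15, 2, 22, 4, 0, 14, 12, 3, 10, 1, 20, 9, 5, 17, 11, 21, 23, 13, 18, 7, 6],
   [17, 5, 14, 23, 2, 13, 4, 0, 11, 10, 1, 12, 3, 16, 20, 22, 9, 21, 8, 6, 19, 15, 7, 18],
   [18, 21, 13, 20, 2, 14, 4, 0, 19, 10, 1, 12, 3, 6, 23, 8, 15, 5, 22, 16, 11, 9, 7, 17],
   [19, 8, 15, 16, 2, 10, 18, 0, 9, 20, 1, 21, 3, 17, 7, 6, 11, 4, 14, 22, 23, 5, 13, 12],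
   [20, 18, 21, 13, 23, 15, 2, 5, 10, 1, 17, 3, 14, 9, 8, 4, 12, 16, 11, 7, 6, 22, 0, 19],
   [21, 13, 20, 18, 2, 4, 11, 0, 5, 22, 3, 6, 1, 16, 10, 14, 23, 12, 8, 17, 15, 19, 9, 7],
   [22, 9, 6, 11, 2, 16, 4, 0, 20, 12, 3, 10, 1, 14, 19, 18, 21, 15, 17, 13, 23, 5, 7, 8],
   [23, 14, 5, 17, 2, 21, 4, 0, 22, 10, 1, 12, 3, 15, 18, 11, 6, 13, 19, 9, 8, 16, 7, 20]]

theorem trZ_chk : trZ.all (fun l => isM24L l && (sameSet (S0l.map (actM l 0)) S0l && compL l tB == compL tB l)) = true := by decide +kernel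

theorem trZ_cover : ∀ j : Fin 24, ∃ l ∈ trZ, l.getD 0 0 = j.val := by decide

theorem tB_fix : (Finset.univ.filter fun p => permL tB p = p) = mset 0 :=
  fix_eq_mset (isPermL_of_isM24L tB_M24) _ (by decide)

theorem tB_fpf : ∀ p, permL tB p ≠ p := by
  intro p hp
  have : p ∈ (Finset.univ.filter fun p => permL tB p = p) := by
    rw [Finset.mem_filter]; exact ⟨Finset.mem_univ _, hp⟩
  rw [tB_fix, mset_zero] at this
  exact absurd this (Finset.notMem_empty _)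

/-- Every fixed-point-free involution of the code's group is conjugate to `tB`. -/
theorem fpf_conj (t : Equiv.Perm GolayPt) (ht : t ∈ M24) (h₂ : orderOf t = 2)
    (h₀ : ∀ p, t p ≠ p) : ∃ k ∈ M24, k * t * k⁻¹ = permL tB := by
  obtain ⟨k, hk, he | he⟩ := inv_class t ht h₂
  · exfalso
    have e : t = k⁻¹ * permL repA * k⁻¹⁻¹ := by rw [← he]; group
    have hf : (Finset.univ.filter fun p => t p = p).card = 8 := by
      rw [e, fix_conj, Finset.card_smul_finset, repA_fix, card_mset]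
      decide
    have : (Finset.univ.filter fun p => t p = p) = ∅ := by
      rw [Finset.filter_eq_empty_iff]
      intro p _
      exact h₀ p
    rw [this] at hf
    simp at hf
  · refine ⟨permL cB * k, M24.mul_mem (permL_mem_M24 cB_M24) hk, ?_⟩
    rw [← cB_conj, ← he]
    group

end Cfsg.Agent.Lib.Helper9
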