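import Mathlib
import Cfsg.Prelude.Def_Sporadic_a
import Cfsg.Agent.Lib.Helper9.GolayPerm

set_option autoImplicit false

open scoped Pointwise

namespace Cfsg.Agent.Lib.Helper9

open Cfsg

theorem ptIdx_lt : ∀ p : GolayPt, ptIdx p < 24 := by decide

theorem ptOf_ptIdx : ∀ p : GolayPt, ptOf (ptIdx p) = p := by decide

theorem ptIdx_ptOf_fin : ∀ i : Fin 24, ptIdx (ptOf i.val) = i.val := by decide

theorem ptIdx_ptOf {i : ℕ} (h : i < 24) : ptIdx (ptOf i) = i := ptIdx_ptOf_fin ⟨i, h⟩

theorem ptIdx_injective : Function.Injective ptIdx := by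
  intro p q h
  rw [← ptOf_ptIdx p, ← ptOf_ptIdx q, h]

/-- The set of points encoded by a bit mask. -/
def mset (m : ℕ) : Finset GolayPt := Finset.univ.filter (fun p => m.testBit (ptIdx p) = true)

theorem mem_mset {m : ℕ} {p : GolayPt} : p ∈ mset m ↔ m.testBit (ptIdx p) = true := by
  simp [mset]

theorem support₂_wordOf (m : ℕ) : support₂ (wordOf m) = mset m := by
  ext p
  rw [mem_mset]
  unfold support₂ wordOf
  by_cases h : m.testBit (ptIdx p) = true <;> simp [h]

theorem card_mset (m : ℕ) : (mset m).card = pc 24 m := by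
  rw [← support₂_wordOf, card_support_wordOf]

theorem mset_and (a b : ℕ) : mset (a &&& b) = mset a ∩ mset b := by
  ext p
  simp [mem_mset, Nat.testBit_and]

theorem mset_or (a b : ℕ) : mset (a ||| b) = mset a ∪ mset b := by
  ext p
  simp [mem_mset, Nat.testBit_or]

theorem testBit_full {j : ℕ} : (16777215 : ℕ).testBit j = decide (j < 24) := by
  have : (16777215 : ℕ) = 2 ^ 24 - 1 := by norm_num
  rw [this, Nat.testBit_two_pow_sub_one]

theorem mset_full : mset 16777215 = Finset.univ := by
  ext p
  simp [mem_mset, testBit_full, ptIdx_lt p]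

theorem mset_xor_full (a : ℕ) : mset (a ^^^ 16777215) = Finset.univ \ mset a := by
  ext p
  simp [mem_mset, Nat.testBit_xor, testBit_full, ptIdx_lt p]

theorem mset_injOn {a b : ℕ} (ha : a < 2 ^ 24) (hb : b < 2 ^ 24) (h : mset a = mset b) : a = b := by
  apply Nat.eq_of_testBit_eq
  intro i
  by_cases hi : i < 24
  · have h1 : ptOf i ∈ mset a ↔ ptOf i ∈ mset b := by rw [h]
    rw [mem_mset, mem_mset, ptIdx_ptOf hi] at h1
    cases ha' : a.testBit i <;> cases hb' : b.testBit i <;> simp_all
  · have h24 : 2 ^ 24 ≤ 2 ^ i := Nat.pow_le_pow_right (by norm_num) (by omega)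
    rw [Nat.testBit_lt_two_pow (lt_of_lt_of_le ha h24), Nat.testBit_lt_two_pow (lt_of_lt_of_le hb h24)]

/-- The bit mask of a set of points. -/
def maskOf (s : Finset GolayPt) : ℕ := Nat.ofBits (fun i : Fin 24 => decide (ptOf i.val ∈ s))

theorem maskOf_lt (s : Finset GolayPt) : maskOf s < 2 ^ 24 := Nat.ofBits_lt_two_pow _

theorem mset_maskOf (s : Finset GolayPt) : mset (maskOf s) = s := by
  ext p
  rw [mem_mset]
  unfold maskOf
  rw [Nat.testBit_ofBits_lt _ _ (ptIdx_lt p)]
  simp [ptOf_ptIdx]

/-- Image of a bit mask under the map of indices given by a list. -/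
def actM : List ℕ → ℕ → ℕ → ℕ
  | [], _, _ => 0
  | a :: as, i, m => (if m.testBit i then 2 ^ a else 0) ||| actM as (i + 1) m

theorem testBit_actM (l : List ℕ) (i m j : ℕ) :
    (actM l i m).testBit j = true ↔
      ∃ k, k < l.length ∧ m.testBit (i + k) = true ∧ l.getD k 0 = j := by
  induction l generalizing i with
  | nil => simp [actM]
  | cons a as ih =>
    rw [actM, Nat.testBit_or, Bool.or_eq_true, ih]
    constructor
    · rintro (h | ⟨k, hk, hm, hj⟩)
      · refine ⟨0, by simp, ?_, ?_⟩
        · by_cases hb : m.testBit i = true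
          · simpa using hb
          · simp [hb] at h
        · by_cases hb : m.testBit i = true
          · simp [hb, Nat.testBit_two_pow] at h
            simpa using h
          · simp [hb] at h
      · refine ⟨k + 1, by simp; omega, ?_, ?_⟩
        · rw [← hm]; congr 1; omega
        · simpa using hj
    · rintro ⟨k, hk, hm, hj⟩
      cases k with
      | zero =>
        left
        simp at hm hj
        simp [hm, Nat.testBit_two_pow, hj]
      | succ k =>
        right
        refine ⟨k, by simpa using hk, ?_, by simpa using hj⟩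
        rw [← hm]; congr 1; omega

/-- The list is a permutation of `0..23`. -/
def isPermL (l : List ℕ) : Bool := l.length == 24 && actM l 0 16777215 == 16777215

theorem isPermL_length {l : List ℕ} (h : isPermL l = true) : l.length = 24 := by
  unfold isPermL at h
  simp only [Bool.and_eq_true, beq_iff_eq] at h
  exact h.1

theorem isPermL_full {l : List ℕ} (h : isPermL l = true) : actM l 0 16777215 = 16777215 := by
  unfold isPermL at h
  simp only [Bool.and_eq_true, beq_iff_eq] at h
  exact h.2

theorem getD_lt_of_isPermL {l : List ℕ} (h : isPermL l = true) {k : ℕ} (hk : k < 24) :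
    l.getD k 0 < 24 := by
  by_contra hcon
  have h1 : (actM l 0 16777215).testBit (l.getD k 0) = true := by
    rw [testBit_actM]
    refine ⟨k, by rw [isPermL_length h]; exact hk, ?_, rfl⟩
    rw [zero_add, testBit_full]
    simpa using hk
  rw [isPermL_full h, testBit_full] at h1
  simp at h1
  exact hcon h1

theorem listFun_surj {l : List ℕ} (h : isPermL l = true) : Function.Surjective (listFun l) := by
  intro p
  have h1 : (actM l 0 16777215).testBit (ptIdx p) = true := by
    rw [isPermL_full h, testBit_full]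
    simpa using ptIdx_lt p
  rw [testBit_actM] at h1
  obtain ⟨k, hk, -, hj⟩ := h1
  rw [isPermL_length h] at hk
  refine ⟨ptOf k, ?_⟩
  unfold listFun
  rw [ptIdx_ptOf hk, hj, ptOf_ptIdx]

/-- The permutation of the 24 points given by a list of images of indices. -/
noncomputable def permL (l : List ℕ) : Equiv.Perm GolayPt :=
  if h : isPermL l = true then
    Equiv.ofBijective (listFun l) (Finite.injective_iff_bijective.mp
      (Finite.injective_iff_surjective.mpr (listFun_surj h)))
  else 1

theorem permL_apply {l : List ℕ} (h : isPermL l = true) (p : GolayPt) :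
    permL l p = listFun l p := by
  unfold permL
  rw [dif_pos h]
  rfl

theorem permL_smul_mset {l : List ℕ} (h : isPermL l = true) (m : ℕ) :
    permL l • mset m = mset (actM l 0 m) := by
  ext p
  rw [Finset.mem_smul_finset, mem_mset, testBit_actM]
  constructor
  · rintro ⟨q, hq, rfl⟩
    rw [mem_mset] at hq
    refine ⟨ptIdx q, by rw [isPermL_length h]; exact ptIdx_lt q, by rw [zero_add]; exact hq, ?_⟩
    rw [Equiv.Perm.smul_def, permL_apply h]
    unfold listFun
    rw [ptIdx_ptOf (getD_lt_of_isPermL h (ptIdx_lt q))]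
  · rintro ⟨k, hk, hm, hj⟩
    rw [isPermL_length h] at hk
    rw [zero_add] at hm
    refine ⟨ptOf k, ?_, ?_⟩
    · rw [mem_mset, ptIdx_ptOf hk]; exact hm
    · rw [Equiv.Perm.smul_def, permL_apply h]
      unfold listFun
      rw [ptIdx_ptOf hk, hj, ptOf_ptIdx]

/-- Membership of a mask in the code (the basis is systematic on bits 12..23). -/
def inCode (m : ℕ) : Bool := cw (m >>> 12) == m

theorem wordOf_mem_of_inCode {m : ℕ} (h : inCode m = true) : wordOf m ∈ golayCode := by
  unfold inCode at h
  rw [beq_iff_eq] at h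
  rw [← h]
  exact wordOf_cw_mem _

theorem wordOf_cwAux_comp (σ : GolayPt → GolayPt) (L : List ℕ)
    (h : ∀ b ∈ L, (fun q => wordOf b (σ q)) ∈ golayCode) (j n : ℕ) :
    (fun q => wordOf (cwAux L j n) (σ q)) ∈ golayCode := by
  induction L generalizing j with
  | nil =>
    have : (fun q => wordOf (cwAux [] j n) (σ q)) = 0 := by
      funext q; simp [cwAux, wordOf]
    rw [this]; exact Submodule.zero_mem _
  | cons g gs ih =>
    have e : (fun q => wordOf (cwAux (g :: gs) j n) (σ q)) =
        (fun q => wordOf (if n.testBit j then g else 0) (σ q)) +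
          (fun q => wordOf (cwAux gs (j + 1) n) (σ q)) := by
      funext q
      rw [cwAux, wordOf_xor]
      rfl
    rw [e]
    refine Submodule.add_mem _ ?_ (ih (fun b hb => h b (List.mem_cons_of_mem _ hb)) _)
    by_cases hb : n.testBit j = true
    · rw [if_pos hb]; exact h g List.mem_cons_self
    · rw [if_neg hb]
      have : (fun q => wordOf 0 (σ q)) = 0 := by funext q; simp [wordOf]
      rw [this]; exact Submodule.zero_mem _

theorem preserves_of_basis' (σ : GolayPt → GolayPt)
    (h : ∀ b ∈ golayBasis, (fun q => wordOf b (σ q)) ∈ golayCode) :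
    ∀ w ∈ golayCode, (fun q => w (σ q)) ∈ golayCode := by
  intro w hw
  obtain ⟨n, _, rfl⟩ := (mem_golayCode_iff w).1 hw
  exact wordOf_cwAux_comp σ golayBasis h 0 n

/-- The list is a permutation preserving the code. -/
def isM24L (l : List ℕ) : Bool := isPermL l && golayBasis.all (fun b => inCode (actM l 0 b))

theorem isPermL_of_isM24L {l : List ℕ} (h : isM24L l = true) : isPermL l = true := by
  unfold isM24L at h
  rw [Bool.and_eq_true] at h
  exact h.1

theorem wordOf_comp_symm {l : List ℕ} (h : isPermL l = true) (m : ℕ) :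
    (fun q => wordOf m ((permL l).symm q)) = wordOf (actM l 0 m) := by
  funext q
  have h1 : q ∈ permL l • mset m ↔ q ∈ mset (actM l 0 m) := by rw [permL_smul_mset h]
  rw [← Finset.inv_smul_mem_iff, mem_mset, mem_mset] at h1
  have h2 : (permL l)⁻¹ • q = (permL l).symm q := rfl
  rw [h2] at h1
  unfold wordOf
  by_cases hb : m.testBit (ptIdx ((permL l).symm q)) = true
  · rw [if_pos hb, if_pos (h1.mp hb)]
  · rw [if_neg hb, if_neg (fun hc => hb (h1.mpr hc))]

theorem permL_mem_M24 {l : List ℕ} (h : isM24L l = true) : permL l ∈ M24 := by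
  have hp := isPermL_of_isM24L h
  have hb : ∀ b ∈ golayBasis, inCode (actM l 0 b) = true := by
    unfold isM24L at h
    rw [Bool.and_eq_true, List.all_eq_true] at h
    exact h.2
  have h1 : (permL l).symm ∈ M24 := by
    apply mem_M24_of_preserves'
    apply preserves_of_basis'
    intro b hb'
    rw [wordOf_comp_symm hp]
    exact wordOf_mem_of_inCode (hb b hb')
  have h2 : permL l = ((permL l).symm)⁻¹ := rfl
  rw [h2]
  exact M24.inv_mem h1

/-! ### Octads -/

theorem mem_octads_iff (o : Finset GolayPt) :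
    o ∈ octads ↔ ∃ n, n < 4096 ∧ pc 24 (cw n) = 8 ∧ o = mset (cw n) := by
  constructor
  · rintro ⟨⟨w, hw, rfl⟩, hcard⟩
    obtain ⟨n, hn, rfl⟩ := (mem_golayCode_iff w).1 hw
    refine ⟨n, hn, ?_, support₂_wordOf _⟩
    rw [← card_mset, ← support₂_wordOf]; exact hcard
  · rintro ⟨n, -, hpc, rfl⟩
    refine ⟨⟨wordOf (cw n), wordOf_cw_mem n, support₂_wordOf _⟩, ?_⟩
    rw [card_mset]; exact hpc

/-- The mask is an octad. -/
def isOct (m : ℕ) : Bool := inCode m && pc 24 m == 8

theorem mset_mem_octads {m : ℕ} (h : isOct m = true) : mset m ∈ octads := by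
  unfold isOct at h
  rw [Bool.and_eq_true, beq_iff_eq] at h
  refine ⟨⟨wordOf m, wordOf_mem_of_inCode h.1, support₂_wordOf _⟩, ?_⟩
  rw [card_mset]; exact h.2

theorem smul_mem_supports {g : Equiv.Perm GolayPt} (hg : g ∈ M24) {s : Finset GolayPt}
    (hs : s ∈ supports (golayCode : Set (GolayPt → ZMod 2))) :
    g • s ∈ supports (golayCode : Set (GolayPt → ZMod 2)) := by
  obtain ⟨w, hw, rfl⟩ := hs
  rw [smul_support₂]
  exact ⟨_, preserves_of_mem_M24 g hg w hw, rfl⟩

theorem smul_mem_octads {g : Equiv.Perm GolayPt} (hg : g ∈ M24) {o : Finset GolayPt}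
    (ho : o ∈ octads) : g • o ∈ octads :=
  ⟨smul_mem_supports hg ho.1, by rw [Finset.card_smul_finset]; exact ho.2⟩

theorem smul_mem_dodecads {g : Equiv.Perm GolayPt} (hg : g ∈ M24) {o : Finset GolayPt}
    (ho : o ∈ dodecads) : g • o ∈ dodecads :=
  ⟨smul_mem_supports hg ho.1, by rw [Finset.card_smul_finset]; exact ho.2⟩

/-- Two octads with at least five common points coincide. -/
theorem octad_eq_of_inter {o o' : Finset GolayPt} (ho : o ∈ octads) (ho' : o' ∈ octads)
    (h : 5 ≤ (o ∩ o').card) : o = o' := by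
  obtain ⟨⟨w, hw, rfl⟩, hc⟩ := ho
  obtain ⟨⟨w', hw', rfl⟩, hc'⟩ := ho'
  rw [Gen.support₂_eq_sp] at hc hc' h ⊢
  rw [Gen.support₂_eq_sp] at h ⊢
  by_contra hne
  have hne' : w + w' ≠ 0 := by
    intro h0
    apply hne
    have : w = w' := by
      have := congrArg (fun x => x + w') h0
      simp only [zero_add] at this
      rw [add_assoc, ← Gen.sub_eq_add24 w' w', sub_self, add_zero] at this
      exact this
    rw [this]
  have hmin := golay_min (w + w') (Submodule.add_mem _ hw hw') hne'
  rw [Gen.hammingNorm_eq_card_sp] at hmin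
  have := Gen.card_sp_add w w'
  omega

end Cfsg.Agent.Lib.Helper9
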