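import Mathlib
import Cfsg.Prelude.Def_Sporadic_a
import Cfsg.Agent.Lib.Helper9.M24Mask

set_option autoImplicit false

open scoped Pointwise

namespace Cfsg.Agent.Lib.Helper9

open Cfsg

section Orbits

variable {A : Type*} [MulAction (Equiv.Perm GolayPt) A]

/-- The orbit of `x` under a subgroup of the permutation group of the 24 points. -/
def orbS (K : Subgroup (Equiv.Perm GolayPt)) (x : A) : Set A := {y | ∃ g ∈ K, g • x = y}

theorem orbS_eq_orbit (K : Subgroup (Equiv.Perm GolayPt)) (x : A) :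
    orbS K x = MulAction.orbit ↥K x := by
  ext y
  constructor
  · rintro ⟨g, hg, rfl⟩
    exact ⟨⟨g, hg⟩, rfl⟩
  · rintro ⟨g, rfl⟩
    exact ⟨g.1, g.2, rfl⟩

theorem orbS_finite (K : Subgroup (Equiv.Perm GolayPt)) (x : A) : (orbS K x).Finite := by
  rw [orbS_eq_orbit]
  exact Set.finite_range _

theorem card_stab_sub (K : Subgroup (Equiv.Perm GolayPt)) (x : A) :
    Nat.card ↥(MulAction.stabilizer ↥K x) =
      Nat.card ↥(K ⊓ MulAction.stabilizer (Equiv.Perm GolayPt) x) := by
  apply Nat.card_congr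
  exact
    { toFun := fun g => ⟨g.1.1, g.1.2, g.2⟩
      invFun := fun g => ⟨⟨g.1, g.2.1⟩, g.2.2⟩
      left_inv := fun _ => rfl
      right_inv := fun _ => rfl }

/-- Orbit-stabiliser. -/
theorem card_orbS_mul (K : Subgroup (Equiv.Perm GolayPt)) (x : A) :
    (orbS K x).ncard * Nat.card ↥(K ⊓ MulAction.stabilizer (Equiv.Perm GolayPt) x) = Nat.card K := by
  rw [orbS_eq_orbit, ← card_stab_sub, ← MulAction.index_stabilizer]
  exact Subgroup.index_mul_card _

theorem le_ncard_orbS (K : Subgroup (Equiv.Perm GolayPt)) (x : A) (N : ℕ) (X : ℕ → A)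
    (hX : ∀ i < N, X i ∈ orbS K x) (hinj : ∀ i < N, ∀ j < N, X i = X j → i = j) :
    N ≤ (orbS K x).ncard := by
  have h1 : (X '' (Finset.range N : Set ℕ)).ncard = N := by
    rw [Set.ncard_image_of_injOn, Set.ncard_coe_finset, Finset.card_range]
    intro i hi j hj hij
    exact hinj i (Finset.mem_range.mp hi) j (Finset.mem_range.mp hj) hij
  rw [← h1]
  apply Set.ncard_le_ncard _ (orbS_finite K x)
  rintro _ ⟨i, hi, rfl⟩
  exact hX i (Finset.mem_range.mp hi)

theorem orbS_exact (K : Subgroup (Equiv.Perm GolayPt)) (x : A) (a s : ℕ)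
    (ha : a ≤ (orbS K x).ncard)
    (hs : s ≤ Nat.card ↥(K ⊓ MulAction.stabilizer (Equiv.Perm GolayPt) x))
    (h : a * s = Nat.card K) :
    (orbS K x).ncard = a ∧ Nat.card ↥(K ⊓ MulAction.stabilizer (Equiv.Perm GolayPt) x) = s := by
  have h1 := card_orbS_mul K x
  have hpos : 0 < Nat.card K := Nat.card_pos
  rw [← h] at h1 hpos
  have ha0 : 0 < a := Nat.pos_of_mul_pos_right hpos
  have hs0 : 0 < s := Nat.pos_of_mul_pos_left hpos
  set o := (orbS K x).ncard
  set t := Nat.card ↥(K ⊓ MulAction.stabilizer (Equiv.Perm GolayPt) x)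
  have h2 : o = a := by
    by_contra hne
    have : a + 1 ≤ o := by omega
    have : (a + 1) * s ≤ o * t := Nat.mul_le_mul this hs
    nlinarith
  refine ⟨h2, ?_⟩
  rw [h2] at h1
  exact Nat.eq_of_mul_eq_mul_left ha0 h1

/-- Schreier-tree certificate for membership in an orbit. -/
theorem schreier_orbit (K : Subgroup (Equiv.Perm GolayPt)) (N : ℕ) (X : ℕ → A)
    (gen : ℕ → Equiv.Perm GolayPt) (pred gi : ℕ → ℕ)
    (h : ∀ i, 0 < i → i < N → pred i < i ∧ gen (gi i) ∈ K ∧ gen (gi i) • X (pred i) = X i) :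
    ∀ i < N, X i ∈ orbS K (X 0) := by
  intro i
  induction i using Nat.strong_induction_on with
  | _ i ih =>
    intro hi
    by_cases h0 : i = 0
    · rw [h0]; exact ⟨1, K.one_mem, one_smul _ _⟩
    · obtain ⟨hp, hg, he⟩ := h i (by omega) hi
      obtain ⟨k, hk, hkx⟩ := ih (pred i) hp (by omega)
      refine ⟨gen (gi i) * k, K.mul_mem hg hk, ?_⟩
      rw [mul_smul, hkx, he]

theorem orbS_mono {K K' : Subgroup (Equiv.Perm GolayPt)} (h : K ≤ K') (x : A) :
    orbS K x ⊆ orbS K' x := by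
  rintro y ⟨g, hg, rfl⟩
  exact ⟨g, h hg, rfl⟩

theorem orbS_eq_of_mem {K : Subgroup (Equiv.Perm GolayPt)} {x y : A} (h : y ∈ orbS K x) :
    orbS K y = orbS K x := by
  obtain ⟨g, hg, rfl⟩ := h
  ext z
  constructor
  · rintro ⟨k, hk, rfl⟩
    exact ⟨k * g, K.mul_mem hk hg, by rw [mul_smul]⟩
  · rintro ⟨k, hk, rfl⟩
    exact ⟨k * g⁻¹, K.mul_mem hk (K.inv_mem hg), by rw [mul_smul, inv_smul_smul]⟩

theorem mem_orbS_self (K : Subgroup (Equiv.Perm GolayPt)) (x : A) : x ∈ orbS K x :=
  ⟨1, K.one_mem, one_smul _ _⟩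

/-- Orbits are equal or disjoint. -/
theorem orbS_disjoint_of_ne {K : Subgroup (Equiv.Perm GolayPt)} {x y : A}
    (h : orbS K x ≠ orbS K y) : Disjoint (orbS K x) (orbS K y) := by
  rw [Set.disjoint_left]
  intro z hzx hzy
  exact h ((orbS_eq_of_mem hzx).symm.trans (orbS_eq_of_mem hzy))

/-- Conjugating the acting group translates the orbit. -/
theorem orbS_conj (K : Subgroup (Equiv.Perm GolayPt)) (g : Equiv.Perm GolayPt) (x : A) :
    orbS (K.map (MulAut.conj g).toMonoidHom) (g • x) = (fun y => g • y) '' orbS K x := by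
  ext z
  constructor
  · rintro ⟨_, ⟨k, hk, rfl⟩, rfl⟩
    refine ⟨k • x, ⟨k, hk, rfl⟩, ?_⟩
    show g • k • x = (g * k * g⁻¹) • g • x
    rw [mul_smul, mul_smul, inv_smul_smul]
  · rintro ⟨_, ⟨k, hk, rfl⟩, rfl⟩
    refine ⟨g * k * g⁻¹, ⟨k, hk, rfl⟩, ?_⟩
    rw [mul_smul, mul_smul, inv_smul_smul]

end Orbits

/-- The permutations fixing the points with the given indices. -/
def fixS (fixed : List ℕ) : Subgroup (Equiv.Perm GolayPt) where
  carrier := {g | ∀ i ∈ fixed, g (ptOf i) = ptOf i}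
  one_mem' := fun _ _ => rfl
  mul_mem' := by
    intro g h hg hh i hi
    rw [Equiv.Perm.mul_apply, hh i hi, hg i hi]
  inv_mem' := by
    intro g hg i hi
    rw [Equiv.Perm.inv_eq_iff_eq, hg i hi]

theorem mem_fixS {fixed : List ℕ} {g : Equiv.Perm GolayPt} :
    g ∈ fixS fixed ↔ ∀ i ∈ fixed, g (ptOf i) = ptOf i := Iff.rfl

theorem fixS_cons (K : Subgroup (Equiv.Perm GolayPt)) (c : ℕ) (fixed : List ℕ) :
    K ⊓ fixS (c :: fixed) = (K ⊓ fixS fixed) ⊓ MulAction.stabilizer (Equiv.Perm GolayPt) (ptOf c) := by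
  ext g
  simp only [Subgroup.mem_inf, mem_fixS, List.forall_mem_cons, MulAction.mem_stabilizer_iff,
    Equiv.Perm.smul_def]
  tauto

/-- One step of a stabiliser chain: a lower bound from distinct images. -/
theorem chain_step (K : Subgroup (Equiv.Perm GolayPt)) (c : GolayPt)
    (U : List (Equiv.Perm GolayPt)) (hU : ∀ u ∈ U, u ∈ K)
    (hnd : (U.map (fun u => u c)).Nodup) :
    U.length * Nat.card ↥(K ⊓ MulAction.stabilizer (Equiv.Perm GolayPt) c) ≤ Nat.card K := by
  classical
  rw [← card_orbS_mul K c]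
  apply Nat.mul_le_mul_right
  have h1 : ((U.map (fun u => u c)).toFinset : Set GolayPt) ⊆ orbS K c := by
    intro y hy
    rw [Finset.mem_coe, List.mem_toFinset, List.mem_map] at hy
    obtain ⟨u, hu, rfl⟩ := hy
    exact ⟨u, hU u hu, rfl⟩
  have h2 := Set.ncard_le_ncard h1 (orbS_finite K c)
  rw [Set.ncard_coe_finset, List.toFinset_card_of_nodup hnd, List.length_map] at h2
  exact h2

/-- Checker for a chain of transversals: at each level the listed permutations lie in the
group, fix the earlier base points, and move the new base point to distinct points. -/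
def chainChk (memK : List ℕ → Bool) : List (ℕ × List (List ℕ)) → List ℕ → Bool
  | [], _ => true
  | (c, us) :: rest, fixed =>
      decide (c < 24) &&
      us.all (fun l => isM24L l && memK l && fixed.all (fun i => l.getD i 0 == i)) &&
      decide ((us.map (fun l => l.getD c 0)).Nodup) && chainChk memK rest (c :: fixed)

def chainProd : List (ℕ × List (List ℕ)) → ℕ
  | [] => 1
  | (_, us) :: rest => us.length * chainProd rest

theorem permL_ptOf {l : List ℕ} (h : isPermL l = true) {i : ℕ} (hi : i < 24) :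
    permL l (ptOf i) = ptOf (l.getD i 0) := by
  rw [permL_apply h]
  unfold listFun
  rw [ptIdx_ptOf hi]

theorem ptOf_injOn {i j : ℕ} (hi : i < 24) (hj : j < 24) (h : ptOf i = ptOf j) : i = j := by
  rw [← ptIdx_ptOf hi, ← ptIdx_ptOf hj, h]

theorem chain_lb (K : Subgroup (Equiv.Perm GolayPt)) (memK : List ℕ → Bool)
    (hK : ∀ l, isM24L l = true → memK l = true → permL l ∈ K)
    (levels : List (ℕ × List (List ℕ))) (fixed : List ℕ) (hfix : ∀ i ∈ fixed, i < 24)
    (h : chainChk memK levels fixed = true) :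
    chainProd levels ≤ Nat.card ↥(K ⊓ fixS fixed) := by
  induction levels generalizing fixed with
  | nil => exact Nat.card_pos
  | cons lv rest ih =>
    obtain ⟨c, us⟩ := lv
    rw [chainChk] at h
    simp only [Bool.and_eq_true, decide_eq_true_eq, List.all_eq_true, beq_iff_eq] at h
    obtain ⟨⟨⟨hc, hus⟩, hnd⟩, hrest⟩ := h
    have hfix' : ∀ i ∈ c :: fixed, i < 24 := by
      intro i hi
      rcases List.mem_cons.mp hi with rfl | hi
      · exact hc
      · exact hfix i hi
    have ih' := ih (c :: fixed) hfix' hrest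
    rw [fixS_cons] at ih'
    have hU : ∀ u ∈ us.map permL, u ∈ K ⊓ fixS fixed := by
      intro u hu
      obtain ⟨l, hl, rfl⟩ := List.mem_map.mp hu
      obtain ⟨⟨h1, h2⟩, h3⟩ := hus l hl
      refine ⟨hK l h1 h2, ?_⟩
      intro i hi
      rw [permL_ptOf (isPermL_of_isM24L h1) (hfix i hi), h3 i hi]
    have hnd' : ((us.map permL).map (fun u => u (ptOf c))).Nodup := by
      rw [List.map_map]
      have e : us.map ((fun u => u (ptOf c)) ∘ permL) = (us.map (fun l => l.getD c 0)).map ptOf := by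
        rw [List.map_map]
        apply List.map_congr_left
        intro l hl
        obtain ⟨⟨h1, _⟩, _⟩ := hus l hl
        exact permL_ptOf (isPermL_of_isM24L h1) hc
      rw [e]
      apply List.Nodup.map_on _ hnd
      intro x hx y hy hxy
      obtain ⟨l, hl, rfl⟩ := List.mem_map.mp hx
      obtain ⟨l', hl', rfl⟩ := List.mem_map.mp hy
      obtain ⟨⟨h1, _⟩, _⟩ := hus l hl
      obtain ⟨⟨h1', _⟩, _⟩ := hus l' hl'
      exact ptOf_injOn (getD_lt_of_isPermL (isPermL_of_isM24L h1) hc)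
        (getD_lt_of_isPermL (isPermL_of_isM24L h1') hc) hxy
    have hstep := chain_step (K ⊓ fixS fixed) (ptOf c) (us.map permL) hU hnd'
    rw [List.length_map] at hstep
    rw [chainProd]
    exact le_trans (Nat.mul_le_mul_left _ ih') hstep

/-- Bridge: orbits of the stabiliser (inside the code's group) of an object. -/
theorem orbit_stab_eq {A B : Type*} [MulAction (Equiv.Perm GolayPt) A]
    [MulAction (Equiv.Perm GolayPt) B] (o : B) (X : A) :
    MulAction.orbit ↥(MulAction.stabilizer ↥M24 o) X =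
      orbS (M24 ⊓ MulAction.stabilizer (Equiv.Perm GolayPt) o) X := by
  ext y
  constructor
  · rintro ⟨h, rfl⟩
    exact ⟨h.1.1, ⟨h.1.2, h.2⟩, rfl⟩
  · rintro ⟨g, ⟨hg, hgo⟩, rfl⟩
    exact ⟨⟨⟨g, hg⟩, hgo⟩, rfl⟩

end Cfsg.Agent.Lib.Helper9
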