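import Mathlib
import Cfsg.Prelude.Def_Sporadic_a
import Cfsg.Agent.Lib.Helper9.M24Grp

set_option autoImplicit false

open scoped Pointwise

namespace Cfsg.Agent.Lib.Helper9

open Cfsg

def levelsM24 : List (ℕ × List (List ℕ)) :=
  [(23, [[23, 22, 11, 15, 17, 9, 19, 13, 20, 5, 16, 2, 21, 7, 18, 3, 10, 4, 14, 6, 8, 12, 1, 0],
      [23, 0, 12, 16, 18, 10, 20, 14, 21, 6, 17, 3, 22, 8, 19, 4, 11, 5, 15, 7, 9, 13, 2, 1],
      [23, 1, 13, 17, 19, 11, 21, 15, 22, 7, 18, 4, 0, 9, 20, 5, 12, 6, 16, 8, 10, 14, 3, 2],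
      [0, 23, 7, 8, 2, 12, 1, 16, 6, 5, 10, 4, 14, 13, 19, 20, 11, 17, 22, 9, 21, 18, 15, 3],
      [23, 0, 9, 22, 21, 11, 20, 16, 12, 13, 10, 17, 6, 8, 18, 7, 2, 15, 1, 5, 19, 14, 3, 4],
      [23, 0, 2, 21, 14, 16, 13, 20, 9, 10, 11, 12, 22, 1, 18, 4, 3, 15, 7, 8, 6, 19, 17, 5],
      [23, 0, 15, 19, 22, 3, 10, 7, 14, 21, 20, 11, 16, 17, 5, 4, 2, 9, 1, 12, 13, 18, 8, 6],
      [23, 0, 11, 6, 13, 9, 18, 19, 10, 21, 12, 17, 22, 15, 20, 4, 2, 8, 1, 5, 16, 14, 3, 7],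
      [23, 1, 12, 7, 14, 10, 19, 20, 11, 22, 13, 18, 0, 16, 21, 5, 3, 9, 2, 6, 17, 15, 4, 8],
      [23, 0, 16, 6, 1, 21, 19, 11, 5, 8, 15, 4, 14, 3, 10, 13, 7, 22, 20, 17, 12, 2, 18, 9],
      [23, 0, 22, 3, 20, 18, 14, 13, 11, 6, 9, 7, 17, 12, 2, 16, 8, 19, 1, 5, 21, 15, 4, 10],
      [23, 0, 7, 12, 15, 4, 19, 18, 22, 8, 6, 17, 10, 13, 16, 9, 2, 21, 1, 5, 20, 14, 3, 11],
      [23, 1, 8, 13, 16, 5, 20, 19, 0, 9, 7, 18, 11, 14, 17, 10, 3, 22, 2, 6, 21, 15, 4, 12],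
      [0, 23, 2, 19, 7, 5, 14, 6, 16, 12, 21, 4, 1, 3, 8, 17, 11, 20, 22, 9, 10, 18, 15, 13],
      [0, 23, 6, 15, 21, 16, 18, 13, 3, 10, 20, 7, 4, 8, 11, 19, 5, 1, 22, 9, 17, 2, 12, 14],
      [23, 0, 13, 20, 11, 21, 22, 10, 19, 9, 16, 17, 18, 7, 6, 8, 2, 4, 1, 5, 12, 14, 3, 15],
      [23, 0, 12, 4, 20, 7, 18, 22, 19, 13, 8, 5, 10, 6, 21, 15, 2, 11, 1, 14, 9, 17, 3, 16],
      [23, 0, 7, 8, 2, 12, 1, 10, 21, 5, 16, 15, 14, 20, 19, 13, 18, 3, 9, 22, 6, 11, 4, 17],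
      [23, 0, 19, 3, 12, 10, 14, 7, 15, 16, 8, 13, 17, 20, 2, 6, 9, 22, 1, 5, 4, 11, 21, 18],
      [23, 0, 10, 3, 21, 18, 17, 20, 12, 4, 7, 16, 5, 8, 2, 9, 11, 22, 1, 14, 13, 6, 15, 19],
      [23, 0, 16, 15, 12, 19, 4, 9, 21, 10, 13, 17, 8, 6, 7, 18, 2, 22, 1, 5, 11, 14, 3, 20],
      [23, 0, 11, 7, 14, 16, 8, 19, 13, 6, 18, 9, 5, 22, 4, 3, 2, 12, 1, 15, 17, 10, 20, 21],
      [0, 23, 21, 10, 14, 16, 8, 18, 12, 19, 4, 15, 1, 20, 6, 17, 2, 9, 3, 13, 5, 7, 11, 22],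
      [0, 1, 2, 3, 4, 5, 6, 7, 8, 9, 10, 11, 12, 13, 14, 15, 16, 17, 18, 19, 20, 21, 22, 23]]),
   (0, [[0, 1, 2, 3, 4, 5, 6, 7, 8, 9, 10, 11, 12, 13, 14, 15, 16, 17, 18, 19, 20, 21, 22, 23],
      [1, 2, 3, 4, 5, 6, 7, 8, 9, 10, 11, 12, 13, 14, 15, 16, 17, 18, 19, 20, 21, 22, 0, 23],
      [2, 3, 4, 5, 6, 7, 8, 9, 10, 11, 12, 13, 14, 15, 16, 17, 18, 19, 20, 21, 22, 0, 1, 23],
      [3, 6, 22, 19, 4, 16, 20, 11, 13, 8, 18, 21, 5, 7, 1, 9, 14, 17, 2, 10, 12, 15, 0, 23],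
      [4, 3, 17, 7, 15, 13, 5, 8, 19, 11, 2, 9, 14, 16, 1, 22, 10, 21, 18, 20, 12, 6, 0, 23],
      [5, 17, 12, 4, 15, 10, 8, 1, 6, 16, 3, 2, 19, 20, 7, 21, 11, 14, 18, 13, 9, 22, 0, 23],
      [6, 8, 11, 4, 9, 21, 12, 17, 13, 3, 2, 15, 18, 7, 1, 19, 20, 22, 5, 10, 14, 16, 0, 23],
      [7, 3, 17, 4, 8, 21, 5, 15, 16, 9, 2, 11, 14, 19, 1, 6, 12, 13, 20, 18, 10, 22, 0, 23],
      [8, 4, 18, 5, 9, 22, 6, 16, 17, 10, 3, 12, 15, 20, 2, 7, 13, 14, 21, 19, 11, 0, 1, 23],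
      [9, 18, 4, 13, 22, 8, 17, 3, 12, 21, 7, 16, 2, 11, 20, 6, 15, 1, 10, 19, 5, 14, 0, 23],
      [10, 4, 7, 16, 19, 6, 5, 12, 21, 18, 8, 22, 15, 13, 1, 3, 9, 20, 2, 14, 11, 17, 0, 23],
      [11, 3, 17, 9, 21, 8, 5, 13, 20, 4, 2, 7, 14, 18, 1, 12, 6, 15, 16, 19, 22, 10, 0, 23],
      [12, 4, 18, 10, 22, 9, 6, 14, 21, 5, 3, 8, 15, 19, 2, 13, 7, 16, 17, 20, 0, 11, 1, 23],
      [13, 3, 17, 21, 9, 4, 5, 11, 6, 8, 2, 15, 14, 22, 1, 16, 20, 7, 12, 10, 18, 19, 0, 23],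
      [14, 20, 2, 16, 11, 18, 15, 6, 12, 13, 10, 17, 9, 21, 1, 4, 22, 19, 8, 7, 3, 5, 0, 23],
      [15, 3, 17, 8, 4, 9, 5, 7, 12, 21, 2, 13, 14, 10, 1, 20, 16, 11, 6, 22, 19, 18, 0, 23],
      [16, 3, 5, 15, 11, 13, 14, 6, 9, 7, 2, 12, 17, 22, 1, 4, 8, 20, 21, 18, 19, 10, 0, 23],
      [17, 4, 15, 13, 3, 5, 22, 20, 6, 12, 18, 7, 11, 10, 9, 8, 16, 2, 19, 1, 21, 14, 0, 23],
      [18, 21, 13, 6, 22, 16, 5, 20, 4, 10, 9, 19, 11, 7, 1, 3, 8, 12, 2, 14, 15, 17, 0, 23],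
      [19, 15, 16, 9, 22, 4, 14, 8, 13, 18, 11, 10, 6, 20, 1, 3, 7, 21, 2, 17, 12, 5, 0, 23],
      [20, 3, 17, 18, 22, 10, 5, 6, 11, 19, 2, 16, 14, 9, 1, 15, 13, 12, 7, 4, 21, 8, 0, 23],
      [21, 20, 9, 3, 12, 6, 15, 22, 17, 16, 2, 11, 10, 19, 1, 7, 18, 14, 4, 8, 13, 5, 0, 23],
      [22, 4, 7, 18, 6, 19, 5, 20, 2, 16, 8, 10, 15, 14, 1, 9, 3, 12, 21, 13, 17, 11, 0, 23]]),
   (1, [[0, 1, 2, 3, 4, 5, 6, 7, 8, 9, 10, 11, 12, 13, 14, 15, 16, 17, 18, 19, 20, 21, 22, 23],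
      [0, 2, 17, 12, 16, 10, 15, 8, 14, 18, 4, 3, 5, 19, 13, 7, 11, 21, 1, 6, 20, 22, 9, 23],
      [0, 3, 16, 20, 15, 12, 13, 21, 22, 7, 9, 8, 11, 17, 6, 1, 10, 2, 5, 14, 18, 19, 4, 23],
      [0, 4, 3, 17, 7, 15, 13, 5, 8, 19, 11, 2, 9, 14, 16, 1, 22, 10, 21, 18, 20, 12, 6, 23],
      [0, 5, 17, 12, 4, 15, 10, 8, 1, 6, 16, 3, 2, 19, 20, 7, 21, 11, 14, 18, 13, 9, 22, 23],
      [0, 6, 8, 11, 4, 9, 21, 12, 17, 13, 3, 2, 15, 18, 7, 1, 19, 20, 22, 5, 10, 14, 16, 23],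
      [0, 7, 3, 17, 4, 8, 21, 5, 15, 16, 9, 2, 11, 14, 19, 1, 6, 12, 13, 20, 18, 10, 22, 23],
      [0, 8, 3, 17, 15, 7, 11, 5, 4, 10, 13, 2, 21, 14, 12, 1, 18, 19, 9, 22, 6, 16, 20, 23],
      [0, 9, 18, 4, 13, 22, 8, 17, 3, 12, 21, 7, 16, 2, 11, 20, 6, 15, 1, 10, 19, 5, 14, 23],
      [0, 10, 4, 7, 16, 19, 6, 5, 12, 21, 18, 8, 22, 15, 13, 1, 3, 9, 20, 2, 14, 11, 17, 23],
      [0, 11, 3, 17, 9, 21, 8, 5, 13, 20, 4, 2, 7, 14, 18, 1, 12, 6, 15, 16, 19, 22, 10, 23],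
      [0, 12, 9, 15, 14, 13, 18, 20, 7, 17, 6, 2, 22, 10, 8, 1, 11, 16, 5, 19, 4, 21, 3, 23],
      [0, 13, 3, 17, 21, 9, 4, 5, 11, 6, 8, 2, 15, 14, 22, 1, 16, 20, 7, 12, 10, 18, 19, 23],
      [0, 14, 12, 18, 15, 16, 9, 11, 6, 7, 13, 8, 21, 2, 22, 1, 19, 17, 5, 3, 20, 10, 4, 23],
      [0, 15, 3, 17, 8, 4, 9, 5, 7, 12, 21, 2, 13, 14, 10, 1, 20, 16, 11, 6, 22, 19, 18, 23],
      [0, 16, 3, 5, 15, 11, 13, 14, 6, 9, 7, 2, 12, 17, 22, 1, 4, 8, 20, 21, 18, 19, 10, 23],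
      [0, 17, 4, 15, 13, 3, 5, 22, 20, 6, 12, 18, 7, 11, 10, 9, 8, 16, 2, 19, 1, 21, 14, 23],
      [0, 18, 16, 22, 10, 14, 8, 4, 21, 9, 7, 2, 5, 13, 12, 1, 11, 17, 15, 19, 3, 6, 20, 23],
      [0, 19, 13, 4, 14, 9, 6, 22, 8, 17, 18, 2, 20, 16, 7, 1, 21, 10, 5, 12, 15, 11, 3, 23],
      [0, 20, 3, 17, 18, 22, 10, 5, 6, 11, 19, 2, 16, 14, 9, 1, 15, 13, 12, 7, 4, 21, 8, 23],
      [0, 21, 20, 9, 3, 12, 6, 15, 22, 17, 16, 2, 11, 10, 19, 1, 7, 18, 14, 4, 8, 13, 5, 23],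
      [0, 22, 4, 7, 18, 6, 19, 5, 20, 2, 16, 8, 10, 15, 14, 1, 9, 3, 12, 21, 13, 17, 11, 23]]),
   (2, [[0, 1, 2, 3, 4, 5, 6, 7, 8, 9, 10, 11, 12, 13, 14, 15, 16, 17, 18, 19, 20, 21, 22, 23],
      [0, 1, 3, 18, 10, 16, 17, 5, 19, 22, 15, 4, 11, 13, 9, 12, 6, 7, 20, 14, 21, 2, 8, 23],
      [0, 1, 4, 14, 19, 10, 13, 16, 12, 15, 7, 9, 17, 20, 21, 5, 11, 18, 6, 22, 8, 2, 3, 23],
      [0, 1, 5, 7, 12, 4, 3, 17, 9, 22, 18, 13, 21, 16, 8, 6, 10, 15, 11, 14, 20, 2, 19, 23],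
      [0, 1, 6, 10, 5, 8, 21, 7, 4, 11, 14, 12, 9, 18, 3, 15, 22, 13, 17, 19, 16, 2, 20, 23],
      [0, 1, 7, 10, 16, 17, 6, 21, 8, 14, 13, 5, 15, 3, 22, 20, 18, 11, 4, 19, 12, 2, 9, 23],
      [0, 1, 8, 4, 18, 5, 9, 22, 6, 16, 17, 10, 3, 12, 15, 20, 2, 7, 13, 14, 21, 19, 11, 23],
      [0, 1, 9, 14, 18, 22, 15, 20, 6, 13, 11, 4, 17, 16, 8, 5, 7, 19, 12, 10, 21, 2, 3, 23],
      [0, 1, 10, 7, 4, 11, 6, 3, 19, 9, 2, 5, 12, 21, 22, 20, 18, 17, 16, 8, 15, 13, 14, 23],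
      [0, 1, 11, 14, 20, 6, 8, 18, 22, 21, 9, 7, 17, 19, 15, 5, 4, 16, 10, 12, 13, 2, 3, 23],
      [0, 1, 12, 15, 9, 21, 18, 11, 13, 16, 19, 20, 7, 17, 22, 5, 6, 3, 14, 2, 10, 8, 4, 23],
      [0, 1, 13, 14, 6, 20, 4, 22, 18, 9, 21, 15, 17, 10, 7, 5, 8, 12, 19, 16, 11, 2, 3, 23],
      [0, 1, 14, 10, 7, 4, 3, 5, 8, 16, 6, 22, 9, 13, 21, 15, 12, 18, 19, 17, 11, 2, 20, 23],
      [0, 1, 15, 18, 5, 19, 9, 10, 16, 21, 3, 6, 11, 7, 17, 12, 4, 13, 14, 20, 22, 2, 8, 23],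
      [0, 1, 16, 14, 7, 15, 22, 4, 8, 10, 19, 20, 17, 9, 6, 5, 18, 11, 21, 13, 12, 2, 3, 23],
      [0, 1, 17, 10, 21, 22, 5, 3, 12, 13, 19, 4, 9, 16, 7, 15, 8, 11, 6, 14, 18, 2, 20, 23],
      [0, 1, 18, 15, 14, 17, 12, 2, 3, 20, 22, 16, 7, 21, 19, 5, 10, 13, 9, 11, 6, 8, 4, 23],
      [0, 1, 19, 15, 11, 13, 22, 9, 21, 10, 12, 6, 7, 3, 18, 5, 20, 17, 2, 14, 16, 8, 4, 23],
      [0, 1, 20, 17, 4, 21, 15, 10, 18, 7, 13, 6, 5, 19, 16, 14, 11, 8, 22, 9, 12, 2, 3, 23],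
      [0, 1, 21, 14, 22, 18, 7, 6, 20, 11, 13, 8, 17, 12, 4, 5, 15, 10, 16, 19, 9, 2, 3, 23],
      [0, 1, 22, 18, 19, 5, 4, 16, 10, 3, 21, 17, 11, 14, 6, 12, 9, 20, 7, 13, 15, 2, 8, 23]]),
   (3, [[0, 1, 2, 3, 4, 5, 6, 7, 8, 9, 10, 11, 12, 13, 14, 15, 16, 17, 18, 19, 20, 21, 22, 23],
      [0, 1, 2, 4, 21, 13, 12, 11, 9, 3, 17, 10, 15, 6, 16, 5, 19, 22, 20, 18, 14, 8, 7, 23],
      [0, 1, 2, 5, 12, 3, 20, 15, 22, 7, 6, 16, 13, 18, 17, 21, 8, 14, 4, 10, 19, 9, 11, 23],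
      [0, 1, 2, 6, 22, 7, 12, 11, 17, 15, 9, 5, 3, 4, 19, 10, 16, 21, 14, 18, 20, 8, 13, 23],
      [0, 1, 2, 7, 13, 19, 5, 17, 15, 11, 8, 20, 9, 4, 6, 18, 22, 21, 10, 14, 12, 3, 16, 23],
      [0, 1, 2, 8, 9, 12, 5, 17, 4, 21, 7, 22, 13, 15, 18, 6, 20, 11, 16, 14, 19, 3, 10, 23],
      [0, 1, 2, 9, 6, 20, 16, 22, 18, 14, 3, 12, 11, 7, 10, 5, 19, 15, 8, 4, 17, 13, 21, 23],
      [0, 1, 2, 10, 12, 20, 6, 7, 13, 17, 3, 16, 4, 8, 15, 14, 11, 9, 22, 19, 5, 21, 18, 23],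
      [0, 1, 2, 11, 7, 8, 14, 5, 15, 13, 16, 10, 20, 6, 18, 4, 21, 12, 9, 17, 22, 3, 19, 23],
      [0, 1, 2, 12, 16, 18, 15, 9, 3, 6, 21, 5, 14, 22, 8, 7, 4, 11, 17, 10, 19, 20, 13, 23],
      [0, 1, 2, 13, 7, 22, 5, 17, 11, 15, 9, 12, 8, 21, 16, 10, 19, 4, 18, 14, 20, 3, 6, 23],
      [0, 1, 2, 14, 8, 3, 21, 6, 10, 16, 4, 9, 20, 18, 5, 13, 11, 17, 15, 19, 22, 7, 12, 23],
      [0, 1, 2, 15, 11, 10, 5, 17, 7, 13, 4, 6, 21, 8, 20, 22, 18, 9, 19, 14, 16, 3, 12, 23],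
      [0, 1, 2, 16, 20, 22, 14, 5, 6, 12, 11, 21, 7, 15, 4, 18, 10, 13, 19, 17, 8, 3, 9, 23],
      [0, 1, 2, 17, 15, 14, 12, 11, 6, 22, 4, 19, 21, 9, 5, 16, 10, 3, 7, 18, 13, 8, 20, 23],
      [0, 1, 2, 18, 14, 11, 20, 15, 6, 13, 22, 21, 7, 5, 8, 16, 17, 12, 19, 10, 4, 9, 3, 23],
      [0, 1, 2, 19, 8, 21, 4, 16, 20, 5, 3, 9, 15, 11, 6, 17, 12, 7, 10, 22, 14, 13, 18, 23],
      [0, 1, 2, 20, 3, 15, 7, 21, 12, 16, 13, 11, 18, 14, 10, 22, 17, 9, 8, 19, 4, 6, 5, 23],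
      [0, 1, 2, 21, 14, 19, 15, 9, 22, 11, 12, 4, 16, 3, 7, 8, 5, 6, 13, 10, 18, 20, 17, 23],
      [0, 1, 2, 22, 19, 13, 5, 17, 18, 10, 20, 8, 12, 6, 4, 15, 7, 16, 11, 14, 9, 3, 21, 23]]),
   (5, [[0, 1, 2, 3, 4, 5, 6, 7, 8, 9, 10, 11, 12, 13, 14, 15, 16, 17, 18, 19, 20, 21, 22, 23],
      [0, 1, 2, 3, 15, 14, 4, 16, 11, 7, 19, 12, 8, 20, 17, 6, 9, 5, 18, 22, 21, 13, 10, 23],
      [0, 1, 2, 3, 6, 17, 15, 9, 12, 16, 22, 8, 11, 21, 5, 4, 7, 14, 18, 10, 13, 20, 19, 23]]),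
   (4, [[0, 1, 2, 3, 4, 5, 6, 7, 8, 9, 10, 11, 12, 13, 14, 15, 16, 17, 18, 19, 20, 21, 22, 23],
      [0, 1, 2, 3, 6, 5, 4, 22, 20, 12, 11, 10, 9, 19, 14, 18, 21, 17, 15, 13, 8, 16, 7, 23],
      [0, 1, 2, 3, 7, 5, 22, 4, 15, 11, 12, 9, 10, 21, 14, 8, 19, 17, 20, 16, 18, 13, 6, 23],
      [0, 1, 2, 3, 8, 5, 20, 15, 4, 21, 19, 13, 16, 11, 14, 7, 12, 17, 22, 10, 6, 9, 18, 23],
      [0, 1, 2, 3, 9, 5, 12, 11, 21, 4, 22, 7, 6, 15, 14, 13, 20, 17, 19, 18, 16, 8, 10, 23],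
      [0, 1, 2, 3, 10, 5, 11, 12, 19, 22, 4, 6, 7, 20, 14, 16, 15, 17, 21, 8, 13, 18, 9, 23],
      [0, 1, 2, 3, 11, 5, 10, 9, 13, 7, 6, 4, 22, 8, 14, 21, 18, 17, 16, 20, 19, 15, 12, 23],
      [0, 1, 2, 3, 12, 5, 9, 10, 16, 6, 7, 22, 4, 18, 14, 19, 8, 17, 13, 15, 21, 20, 11, 23],
      [0, 1, 2, 3, 13, 5, 19, 21, 11, 15, 20, 8, 18, 4, 14, 9, 22, 17, 12, 6, 10, 7, 16, 23],
      [0, 1, 2, 3, 15, 5, 18, 8, 7, 13, 16, 21, 19, 9, 14, 4, 10, 17, 6, 12, 22, 11, 20, 23],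
      [0, 1, 2, 3, 16, 5, 21, 19, 12, 20, 15, 18, 8, 22, 14, 10, 4, 17, 11, 7, 9, 6, 13, 23],
      [0, 1, 2, 3, 18, 5, 15, 20, 22, 19, 21, 16, 13, 12, 14, 6, 11, 17, 4, 9, 7, 10, 8, 23],
      [0, 1, 2, 3, 19, 5, 13, 16, 10, 18, 8, 20, 15, 6, 14, 12, 7, 17, 9, 4, 11, 22, 21, 23],
      [0, 1, 2, 3, 20, 5, 8, 18, 6, 16, 13, 19, 21, 10, 14, 22, 9, 17, 7, 11, 4, 12, 15, 23],
      [0, 1, 2, 3, 21, 5, 16, 13, 9, 8, 18, 15, 20, 7, 14, 11, 6, 17, 10, 22, 12, 4, 19, 23],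
      [0, 1, 2, 3, 22, 5, 7, 6, 18, 10, 9, 12, 11, 16, 14, 20, 13, 17, 8, 21, 15, 19, 4, 23]])]

def rigidSteps : List (ℕ × ℕ) :=
  [(5279, 8391797), (5279, 8421811), (5279, 5279), (10558, 42232), (10558, 133817), (10558, 10558), (18147, 36294), (18147, 69395), (18147, 18147), (36294, 36294), (69395, 69395), (133817, 133817), (262637, 262637), (525274, 525274), (1050548, 1050548), (2101096, 2101096), (4196943, 4196943)]

theorem levelsM24_ok : chainChk (fun _ => true) levelsM24 [] = true := by decide +kernel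

theorem fixS_nil : fixS [] = ⊤ := by
  ext g
  simp [mem_fixS]

theorem card_M24_ge : 244823040 ≤ Nat.card M24 := by
  have h := chain_lb M24 (fun _ => true) (fun l h _ => permL_mem_M24 h) levelsM24 []
    (by simp) levelsM24_ok
  have e : chainProd levelsM24 = 244823040 := by decide +kernel
  rw [e, fixS_nil, inf_top_eq] at h
  exact h

theorem chain_ub_step (K : Subgroup (Equiv.Perm GolayPt)) (c : GolayPt) (S : Finset GolayPt)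
    (hS : ∀ g ∈ K, g c ∈ S) :
    Nat.card K ≤ S.card * Nat.card ↥(K ⊓ MulAction.stabilizer (Equiv.Perm GolayPt) c) := by
  rw [← card_orbS_mul K c]
  apply Nat.mul_le_mul_right
  rw [← Set.ncard_coe_finset]
  apply Set.ncard_le_ncard _ (Finset.finite_toSet S)
  rintro _ ⟨g, hg, rfl⟩
  exact hS g hg

theorem ub_step (fixed : List ℕ) (c : ℕ) (s : ℕ) (n : ℕ)
    (hS : ∀ g ∈ M24 ⊓ fixS fixed, g (ptOf c) ∈ mset s) (hn : pc 24 s = n) :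
    Nat.card ↥(M24 ⊓ fixS fixed) ≤ n * Nat.card ↥(M24 ⊓ fixS (c :: fixed)) := by
  have h := chain_ub_step (M24 ⊓ fixS fixed) (ptOf c) (mset s) hS
  rw [card_mset, hn, ← fixS_cons] at h
  exact h

theorem fix_avoid (fixed : List ℕ) (c : ℕ) (hc : c < 24) (hcf : c ∉ fixed) (s : ℕ)
    (hs : ∀ j : Fin 24, j.val ∉ fixed → s.testBit j.val = true)
    (g : Equiv.Perm GolayPt) (hg : g ∈ fixS fixed) : g (ptOf c) ∈ mset s := by
  rw [mem_mset]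
  have hj := ptIdx_lt (g (ptOf c))
  apply hs ⟨ptIdx (g (ptOf c)), hj⟩
  intro hmem
  have h1 := hg _ hmem
  rw [ptOf_ptIdx] at h1
  have h2 : g (ptOf c) = ptOf c := g.injective h1
  have h3 : ptIdx (g (ptOf c)) = c := by rw [h2, ptIdx_ptOf hc]
  exact hcf (h3 ▸ hmem)

theorem fix_of_mask (fixed : List ℕ) (F : ℕ)
    (h : ∀ p : GolayPt, F.testBit (ptIdx p) = true → ptIdx p ∈ fixed)
    (g : Equiv.Perm GolayPt) (hg : g ∈ fixS fixed) : ∀ p ∈ mset F, g p = p := by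
  intro p hp
  have := hg _ (h p (mem_mset.mp hp))
  rwa [ptOf_ptIdx] at this

theorem mset_subset_of_and {a b : ℕ} (h : a &&& b = a) : mset a ⊆ mset b := by
  rw [← h, mset_and]
  exact Finset.inter_subset_right

/-- An octad with five pointwise fixed points is stabilised. -/
theorem octad_fixed {g : Equiv.Perm GolayPt} (hg : g ∈ M24) {o : ℕ} (ho : isOct o = true)
    (F : Finset GolayPt) (hF : F ⊆ mset o) (h5 : 5 ≤ F.card) (hfix : ∀ p ∈ F, g p = p) :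
    g • mset o = mset o := by
  apply octad_eq_of_inter (smul_mem_octads hg (mset_mem_octads ho)) (mset_mem_octads ho)
  refine le_trans h5 (Finset.card_le_card ?_)
  intro p hp
  rw [Finset.mem_inter]
  refine ⟨?_, hF hp⟩
  have : g • p ∈ g • mset o := Finset.smul_mem_smul_finset (hF hp)
  rw [Equiv.Perm.smul_def, hfix p hp] at this
  exact this

/-- Rigidity certificate: each step gives two stabilised octads meeting the not yet fixed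
points in exactly one point. -/
def rigidChk : List (ℕ × ℕ) → ℕ → Bool
  | [], fx => fx == 16777215
  | (a, b) :: rest, fx =>
      isOct a && isOct b && decide (5 ≤ pc 24 (a &&& fx)) && decide (5 ≤ pc 24 (b &&& fx)) &&
      (pc 24 (a &&& b &&& (fx ^^^ 16777215)) == 1) &&
      rigidChk rest (fx ||| (a &&& b &&& (fx ^^^ 16777215)))

theorem rigid_of_chk (steps : List (ℕ × ℕ)) (fx : ℕ) (h : rigidChk steps fx = true)
    (g : Equiv.Perm GolayPt) (hg : g ∈ M24) (hfix : ∀ p ∈ mset fx, g p = p) : g = 1 := by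
  induction steps generalizing fx with
  | nil =>
    rw [rigidChk, beq_iff_eq] at h
    rw [h, mset_full] at hfix
    apply Equiv.ext
    intro p
    exact hfix p (Finset.mem_univ p)
  | cons st rest ih =>
    obtain ⟨a, b⟩ := st
    rw [rigidChk] at h
    simp only [Bool.and_eq_true, decide_eq_true_eq, beq_iff_eq] at h
    obtain ⟨⟨⟨⟨⟨ha, hb⟩, ha5⟩, hb5⟩, h1⟩, hrest⟩ := h
    have hga : g • mset a = mset a := by
      apply octad_fixed hg ha (mset (a &&& fx))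
      · rw [mset_and]; exact Finset.inter_subset_left
      · rw [card_mset]; exact ha5
      · intro p hp
        rw [mset_and, Finset.mem_inter] at hp
        exact hfix p hp.2
    have hgb : g • mset b = mset b := by
      apply octad_fixed hg hb (mset (b &&& fx))
      · rw [mset_and]; exact Finset.inter_subset_left
      · rw [card_mset]; exact hb5
      · intro p hp
        rw [mset_and, Finset.mem_inter] at hp
        exact hfix p hp.2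
    apply ih _ hrest
    intro p hp
    rw [mset_or, Finset.mem_union] at hp
    rcases hp with hp | hp
    · exact hfix p hp
    · have hD : (mset (a &&& b &&& (fx ^^^ 16777215))).card = 1 := by rw [card_mset]; exact h1
      obtain ⟨q, hq⟩ := Finset.card_eq_one.mp hD
      have hpq : p = q := by rw [hq] at hp; exact Finset.mem_singleton.mp hp
      rw [mset_and, mset_and, mset_xor_full, Finset.mem_inter, Finset.mem_inter,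
        Finset.mem_sdiff] at hp
      obtain ⟨⟨hpa, hpb⟩, -, hpfx⟩ := hp
      have hgp : g p ∈ mset (a &&& b &&& (fx ^^^ 16777215)) := by
        rw [mset_and, mset_and, mset_xor_full, Finset.mem_inter, Finset.mem_inter,
          Finset.mem_sdiff]
        refine ⟨⟨?_, ?_⟩, Finset.mem_univ _, ?_⟩
        · have : g • p ∈ g • mset a := Finset.smul_mem_smul_finset hpa
          rwa [hga] at this
        · have : g • p ∈ g • mset b := Finset.smul_mem_smul_finset hpb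
          rwa [hgb] at this
        · intro hcon
          have := hfix _ hcon
          exact hpfx (g.injective this ▸ hcon)
      rw [hq, Finset.mem_singleton] at hgp
      rw [hgp, hpq]

theorem rigidSteps_ok : rigidChk rigidSteps 8388671 = true := by decide +kernel

/-- The pointwise stabiliser of the seven base points is trivial. -/
theorem rigid7 (g : Equiv.Perm GolayPt) (hg : g ∈ M24 ⊓ fixS [4, 5, 3, 2, 1, 0, 23]) : g = 1 := by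
  apply rigid_of_chk rigidSteps 8388671 rigidSteps_ok g hg.1
  exact fix_of_mask [4, 5, 3, 2, 1, 0, 23] 8388671 (by decide) g hg.2

theorem card_M24_le : Nat.card M24 ≤ 244823040 := by
  have e0 : Nat.card M24 = Nat.card ↥(M24 ⊓ fixS []) := by rw [fixS_nil, inf_top_eq]
  have s1 := ub_step [] 23 16777215 24
    (fun g hg => fix_avoid [] 23 (by norm_num) (by decide) _ (by decide) g hg.2) (by decide)
  have s2 := ub_step [23] 0 8388607 23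
    (fun g hg => fix_avoid [23] 0 (by norm_num) (by decide) _ (by decide) g hg.2) (by decide)
  have s3 := ub_step [0, 23] 1 8388606 22
    (fun g hg => fix_avoid [0, 23] 1 (by norm_num) (by decide) _ (by decide) g hg.2) (by decide)
  have s4 := ub_step [1, 0, 23] 2 8388604 21
    (fun g hg => fix_avoid [1, 0, 23] 2 (by norm_num) (by decide) _ (by decide) g hg.2) (by decide)
  have s5 := ub_step [2, 1, 0, 23] 3 8388600 20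
    (fun g hg => fix_avoid [2, 1, 0, 23] 3 (by norm_num) (by decide) _ (by decide) g hg.2)
    (by decide)
  have hO : isOct 8536111 = true := by decide +kernel
  have hstab : ∀ (fixed : List ℕ), (∀ i ∈ [3, 2, 1, 0, 23], i ∈ fixed) →
      ∀ g ∈ M24 ⊓ fixS fixed, g • mset 8536111 = mset 8536111 := by
    intro fixed hsub g hg
    apply octad_fixed hg.1 hO (mset 8388623) (mset_subset_of_and (by decide))
      (by rw [card_mset]; decide)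
    apply fix_of_mask [3, 2, 1, 0, 23] 8388623 (by decide) g
    intro i hi
    exact hg.2 i (hsub i hi)
  have s6 := ub_step [3, 2, 1, 0, 23] 5 147488 3
    (fun g hg => by
      have h1 := fix_avoid [3, 2, 1, 0, 23] 5 (by norm_num) (by decide) 8388592 (by decide) g hg.2
      have h2 : g • ptOf 5 ∈ g • mset 8536111 :=
        Finset.smul_mem_smul_finset (mem_mset.mpr (by decide))
      rw [hstab _ (fun i hi => hi) g hg, Equiv.Perm.smul_def] at h2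
      have e : (147488 : ℕ) = 8536111 &&& 8388592 := by decide
      rw [e, mset_and, Finset.mem_inter]
      exact ⟨h2, h1⟩) (by decide)
  have s7 := ub_step [5, 3, 2, 1, 0, 23] 4 8241104 16
    (fun g hg => by
      have e : (8241104 : ℕ) = 8536111 ^^^ 16777215 := by decide
      rw [e, mset_xor_full, Finset.mem_sdiff]
      refine ⟨Finset.mem_univ _, ?_⟩
      intro hcon
      rw [← hstab _ (fun i hi => List.mem_cons_of_mem _ hi) g hg, ← Equiv.Perm.smul_def,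
        Finset.smul_mem_smul_finset_iff, mem_mset] at hcon
      revert hcon
      decide) (by decide)
  have s8 : Nat.card ↥(M24 ⊓ fixS [4, 5, 3, 2, 1, 0, 23]) = 1 := by
    rw [Subgroup.card_eq_one, eq_bot_iff]
    intro g hg
    rw [Subgroup.mem_bot]
    exact rigid7 g hg
  rw [e0]
  rw [s8] at s7
  nlinarith

theorem card_M24 : Nat.card M24 = 244823040 := le_antisymm card_M24_le card_M24_ge

end Cfsg.Agent.Lib.Helper9
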