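import Mathlib
import Cfsg.Prelude.Def_Sporadic_a
import Cfsg.Agent.Lib.Helper9.M24Order

set_option autoImplicit false

open scoped Pointwise

namespace Cfsg.Agent.Lib.Helper9

open Cfsg

/-- The pointwise stabiliser of a set of points. -/
def fixF (B : Finset GolayPt) : Subgroup (Equiv.Perm GolayPt) where
  carrier := {g | ∀ p ∈ B, g p = p}
  one_mem' := fun _ _ => rfl
  mul_mem' := by
    intro g h hg hh p hp
    rw [Equiv.Perm.mul_apply, hh p hp, hg p hp]
  inv_mem' := by
    intro g hg p hp
    rw [Equiv.Perm.inv_eq_iff_eq, hg p hp]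

theorem mem_fixF {B : Finset GolayPt} {g : Equiv.Perm GolayPt} :
    g ∈ fixF B ↔ ∀ p ∈ B, g p = p := Iff.rfl

theorem fixF_empty : fixF ∅ = ⊤ := by
  ext g
  simp [mem_fixF]

theorem fixF_insert (K : Subgroup (Equiv.Perm GolayPt)) (c : GolayPt) (B : Finset GolayPt) :
    K ⊓ fixF (insert c B) = (K ⊓ fixF B) ⊓ MulAction.stabilizer (Equiv.Perm GolayPt) c := by
  ext g
  simp only [Subgroup.mem_inf, mem_fixF, Finset.forall_mem_insert, MulAction.mem_stabilizer_iff,
    Equiv.Perm.smul_def]
  tauto

theorem fixF_mono {B B' : Finset GolayPt} (h : B ⊆ B') : fixF B' ≤ fixF B :=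
  fun _ hg p hp => hg p (h hp)

theorem card_golayPt' : Fintype.card GolayPt = 24 := by decide

/-- The index of a pointwise stabiliser of `k` points is at most `24 * 23 * ... `. -/
theorem card_le_desc (K : Subgroup (Equiv.Perm GolayPt)) (B : Finset GolayPt) :
    Nat.card K ≤ Nat.descFactorial 24 B.card * Nat.card ↥(K ⊓ fixF B) := by
  induction B using Finset.induction_on with
  | empty =>
    rw [fixF_empty, inf_top_eq, Finset.card_empty, Nat.descFactorial_zero, one_mul]
  | insert c B hc ih =>
    have h1 := chain_ub_step (K ⊓ fixF B) c (Finset.univ \ B) (by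
      intro g hg
      rw [Finset.mem_sdiff]
      refine ⟨Finset.mem_univ _, ?_⟩
      intro hcon
      have := hg.2 _ hcon
      exact hc (g.injective this ▸ hcon))
    rw [← fixF_insert, Finset.card_univ_diff, card_golayPt'] at h1
    rw [Finset.card_insert_of_notMem hc, Nat.descFactorial_succ]
    calc Nat.card K ≤ Nat.descFactorial 24 B.card * Nat.card ↥(K ⊓ fixF B) := ih
      _ ≤ Nat.descFactorial 24 B.card * ((24 - B.card) * Nat.card ↥(K ⊓ fixF (insert c B))) :=
          Nat.mul_le_mul_left _ h1
      _ = (24 - B.card) * Nat.descFactorial 24 B.card * Nat.card ↥(K ⊓ fixF (insert c B)) := by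
          ring

end Cfsg.Agent.Lib.Helper9
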