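import Mathlib
import Cfsg.Prelude.Def_Sporadic_a
import Cfsg.Agent.Lib.Helper9.M24Fix

set_option autoImplicit false

open scoped Pointwise

namespace Cfsg.Agent.Lib.Helper9

open Cfsg

/-- The `i`-th `w`-bit field of a packed table. -/
def ent (T w i : ℕ) : ℕ := (T >>> (w * i)) &&& (2 ^ w - 1)

theorem ent_lt (T w i : ℕ) : ent T w i < 2 ^ w := by
  unfold ent
  have h1 : (T >>> (w * i)) &&& (2 ^ w - 1) ≤ 2 ^ w - 1 := Nat.and_le_right
  have h2 : 0 < 2 ^ w := Nat.pow_pos (by norm_num)
  omega

/-- The family of sets encoded by a list of masks. -/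
def obj (l : List ℕ) : Finset (Finset GolayPt) := (l.map mset).toFinset

theorem mem_obj {l : List ℕ} {s : Finset GolayPt} : s ∈ obj l ↔ ∃ m ∈ l, mset m = s := by
  unfold obj
  rw [List.mem_toFinset, List.mem_map]

theorem smul_obj {g : List ℕ} (h : isPermL g = true) (l : List ℕ) :
    permL g • obj l = obj (l.map (actM g 0)) := by
  ext s
  rw [Finset.mem_smul_finset, mem_obj]
  constructor
  · rintro ⟨t, ht, rfl⟩
    obtain ⟨m, hm, rfl⟩ := mem_obj.mp ht
    exact ⟨actM g 0 m, List.mem_map.mpr ⟨m, hm, rfl⟩, (permL_smul_mset h m).symm⟩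
  · rintro ⟨m', hm', rfl⟩
    obtain ⟨m, hm, rfl⟩ := List.mem_map.mp hm'
    exact ⟨mset m, mem_obj.mpr ⟨m, hm, rfl⟩, permL_smul_mset h m⟩

def sameSet (l1 l2 : List ℕ) : Bool :=
  l1.all (fun a => l2.contains a) && l2.all (fun a => l1.contains a)

theorem obj_eq_of_sameSet {l1 l2 : List ℕ} (h : sameSet l1 l2 = true) : obj l1 = obj l2 := by
  unfold sameSet at h
  simp only [Bool.and_eq_true, List.all_eq_true, List.contains_iff_mem] at h
  ext s
  rw [mem_obj, mem_obj]
  constructor
  · rintro ⟨m, hm, rfl⟩; exact ⟨m, h.1 m hm, rfl⟩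
  · rintro ⟨m, hm, rfl⟩; exact ⟨m, h.2 m hm, rfl⟩

/-- Strictly increasing list (pairwise). -/
def pwLt : List ℕ → Bool
  | [] => true
  | a :: t => t.all (fun b => decide (a < b)) && pwLt t

theorem pairwise_of_pwLt {l : List ℕ} (h : pwLt l = true) : l.Pairwise (· < ·) := by
  induction l with
  | nil => exact List.Pairwise.nil
  | cons a t ih =>
    rw [pwLt, Bool.and_eq_true, List.all_eq_true] at h
    refine List.Pairwise.cons ?_ (ih h.2)
    intro b hb
    simpa using h.1 b hb

theorem obj_inj {l1 l2 : List ℕ} (h1 : pwLt l1 = true) (h2 : pwLt l2 = true)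
    (hb1 : ∀ a ∈ l1, a < 2 ^ 24) (hb2 : ∀ a ∈ l2, a < 2 ^ 24) (h : obj l1 = obj l2) : l1 = l2 := by
  apply List.Pairwise.eq_of_mem_iff (pairwise_of_pwLt h1) (pairwise_of_pwLt h2)
  intro a
  constructor
  · intro ha
    have : mset a ∈ obj l2 := by rw [← h]; exact mem_obj.mpr ⟨a, ha, rfl⟩
    obtain ⟨b, hb, hab⟩ := mem_obj.mp this
    rw [← mset_injOn (hb2 b hb) (hb1 a ha) hab]; exact hb
  · intro ha
    have : mset a ∈ obj l1 := by rw [h]; exact mem_obj.mpr ⟨a, ha, rfl⟩
    obtain ⟨b, hb, hab⟩ := mem_obj.mp this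
    rw [← mset_injOn (hb1 b hb) (hb2 a ha) hab]; exact hb

/-- The `i`-th object of a table of `k`-mask objects. -/
def decK (k X i : ℕ) : List ℕ := (List.range k).map (fun t => ent X 24 (k * i + t))

theorem decK_lt (k X i : ℕ) : ∀ a ∈ decK k X i, a < 2 ^ 24 := by
  intro a ha
  obtain ⟨t, _, rfl⟩ := List.mem_map.mp ha
  exact ent_lt _ _ _

def num (l : List ℕ) : ℕ := l.foldr (fun m acc => m + 16777216 * acc) 0

theorem inj_of_mono (fp : ℕ → ℕ) (N : ℕ) (h : ∀ i, i + 1 < N → fp i < fp (i + 1)) :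
    ∀ i < N, ∀ j < N, fp i = fp j → i = j := by
  have key : ∀ j, j < N → ∀ i, i < j → fp i < fp j := by
    intro j
    induction j with
    | zero => intro _ i hi; omega
    | succ j ih =>
      intro hj i hi
      rcases Nat.lt_succ_iff_lt_or_eq.mp hi with h1 | h1
      · exact lt_trans (ih (by omega) i h1) (h j hj)
      · rw [h1]; exact h j hj
  intro i hi j hj hij
  rcases Nat.lt_trichotomy i j with h1 | h1 | h1
  · have := key j hj i h1; omega
  · exact h1
  · have := key i hi j h1; omega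

section Core

variable {A : Type*} [MulAction (Equiv.Perm GolayPt) A]

theorem orbit_lb_core (K : Subgroup (Equiv.Perm GolayPt)) (dec : ℕ → A) (fp : ℕ → ℕ) (N r : ℕ)
    (gen : ℕ → Equiv.Perm GolayPt) (pred gi dep : ℕ → ℕ)
    (hS : ∀ i < N, i = r ∨ (pred i < N ∧ dep (pred i) < dep i ∧ gen (gi i) ∈ K ∧
      gen (gi i) • dec (pred i) = dec i))
    (hfp : ∀ i < N, ∀ j < N, dec i = dec j → fp i = fp j)
    (hmono : ∀ i, i + 1 < N → fp i < fp (i + 1)) :
    N ≤ (orbS K (dec r)).ncard := by
  have hmem : ∀ d i, i < N → dep i = d → dec i ∈ orbS K (dec r) := by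
    intro d
    induction d using Nat.strong_induction_on with
    | _ d ih =>
      intro i hi hd
      rcases hS i hi with h | ⟨hp, hdp, hg, he⟩
      · rw [h]; exact mem_orbS_self K _
      · obtain ⟨k, hk, hkx⟩ := ih (dep (pred i)) (by omega) (pred i) hp rfl
        refine ⟨gen (gi i) * k, K.mul_mem hg hk, ?_⟩
        rw [mul_smul, hkx, he]
  apply le_ncard_orbS K (dec r) N dec (fun i hi => hmem (dep i) i hi rfl)
  intro i hi j hj hij
  exact inj_of_mono fp N hmono i hi j hj (hfp i hi j hj hij)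

end Core

/-- Schreier check for tables of `k`-mask objects. `P` entries: 24 bits (predecessor in the low
16 bits, generator index above). `D` entries: 8 bits (depth). -/
def schrK (k : ℕ) (gens : List (List ℕ)) (X P D N r i : ℕ) : Bool :=
  pwLt (decK k X i) &&
  (i == r ||
    (decide (ent P 24 i &&& 65535 < N) && decide (ent P 24 i >>> 16 < gens.length) &&
     decide (ent D 8 (ent P 24 i &&& 65535) < ent D 8 i) &&
     sameSet ((decK k X (ent P 24 i &&& 65535)).map (actM (gens.getD (ent P 24 i >>> 16) []) 0))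
       (decK k X i)))

def monoK (k X i : ℕ) : Bool := decide (num (decK k X i) < num (decK k X (i + 1)))

theorem getD_mem_of_lt {gens : List (List ℕ)} {j : ℕ} (h : j < gens.length) :
    gens.getD j [] ∈ gens := by
  rw [List.getD_eq_getElem _ _ h]
  exact List.getElem_mem h

theorem orbK_lb (K : Subgroup (Equiv.Perm GolayPt)) (k : ℕ) (gens : List (List ℕ))
    (hgens : ∀ l ∈ gens, isPermL l = true ∧ permL l ∈ K) (X P D N r : ℕ)
    (h1 : allBelow (schrK k gens X P D N r) N = true)
    (h2 : allBelow (monoK k X) (N - 1) = true) :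
    N ≤ (orbS K (obj (decK k X r))).ncard := by
  have h1' := allBelow_spec _ _ h1
  have h2' := allBelow_spec _ _ h2
  apply orbit_lb_core K (fun i => obj (decK k X i)) (fun i => num (decK k X i)) N r
    (fun j => permL (gens.getD j [])) (fun i => ent P 24 i &&& 65535) (fun i => ent P 24 i >>> 16)
    (fun i => ent D 8 i)
  · intro i hi
    have := h1' i hi
    unfold schrK at this
    simp only [Bool.and_eq_true, Bool.or_eq_true, beq_iff_eq, decide_eq_true_eq] at this
    rcases this.2 with h | ⟨⟨⟨hp, hg⟩, hd⟩, hs⟩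
    · exact Or.inl h
    · right
      have hmem := getD_mem_of_lt hg
      refine ⟨hp, hd, (hgens _ hmem).2, ?_⟩
      rw [smul_obj (hgens _ hmem).1]
      exact obj_eq_of_sameSet hs
  · intro i hi j hj hij
    have hi' := h1' i hi
    have hj' := h1' j hj
    unfold schrK at hi' hj'
    rw [Bool.and_eq_true] at hi' hj'
    rw [obj_inj hi'.1 hj'.1 (decK_lt k X i) (decK_lt k X j) hij]
  · intro i hi
    have := h2' i (by omega)
    unfold monoK at this
    simpa using this

/-- Schreier check for tables of single masks. -/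
def schr1 (gens : List (List ℕ)) (X P D N r i : ℕ) : Bool :=
  i == r ||
    (decide (ent P 24 i &&& 65535 < N) && decide (ent P 24 i >>> 16 < gens.length) &&
     decide (ent D 8 (ent P 24 i &&& 65535) < ent D 8 i) &&
     actM (gens.getD (ent P 24 i >>> 16) []) 0 (ent X 24 (ent P 24 i &&& 65535)) == ent X 24 i)

def mono1 (X i : ℕ) : Bool := decide (ent X 24 i < ent X 24 (i + 1))

theorem orb1_lb (K : Subgroup (Equiv.Perm GolayPt)) (gens : List (List ℕ))
    (hgens : ∀ l ∈ gens, isPermL l = true ∧ permL l ∈ K) (X P D N r : ℕ)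
    (h1 : allBelow (schr1 gens X P D N r) N = true)
    (h2 : allBelow (mono1 X) (N - 1) = true) :
    N ≤ (orbS K (mset (ent X 24 r))).ncard := by
  have h1' := allBelow_spec _ _ h1
  have h2' := allBelow_spec _ _ h2
  apply orbit_lb_core K (fun i => mset (ent X 24 i)) (fun i => ent X 24 i) N r
    (fun j => permL (gens.getD j [])) (fun i => ent P 24 i &&& 65535) (fun i => ent P 24 i >>> 16)
    (fun i => ent D 8 i)
  · intro i hi
    have := h1' i hi
    unfold schr1 at this
    simp only [Bool.and_eq_true, Bool.or_eq_true, beq_iff_eq, decide_eq_true_eq] at this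
    rcases this with h | ⟨⟨⟨hp, hg⟩, hd⟩, hs⟩
    · exact Or.inl h
    · right
      have hmem := getD_mem_of_lt hg
      refine ⟨hp, hd, (hgens _ hmem).2, ?_⟩
      rw [permL_smul_mset (hgens _ hmem).1, hs]
  · intro i hi j hj hij
    exact mset_injOn (ent_lt _ _ _) (ent_lt _ _ _) hij
  · intro i hi
    have := h2' i (by omega)
    unfold mono1 at this
    simpa using this

theorem stab_obj_of_sameSet {g : List ℕ} (hp : isPermL g = true) (l0 : List ℕ)
    (h : sameSet (l0.map (actM g 0)) l0 = true) :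
    permL g ∈ MulAction.stabilizer (Equiv.Perm GolayPt) (obj l0) := by
  rw [MulAction.mem_stabilizer_iff, smul_obj hp]
  exact obj_eq_of_sameSet h

theorem stab_mset_of_eq {g : List ℕ} (hp : isPermL g = true) (m : ℕ)
    (h : actM g 0 m = m) :
    permL g ∈ MulAction.stabilizer (Equiv.Perm GolayPt) (mset m) := by
  rw [MulAction.mem_stabilizer_iff, permL_smul_mset hp, h]

end Cfsg.Agent.Lib.Helper9
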