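import Mathlib
import Cfsg.Prelude.Def_Sporadic_a
import Cfsg.Agent.Lib.Helper9.M24Orb

set_option autoImplicit false

open scoped Pointwise

namespace Cfsg.Agent.Lib.Helper9

open Cfsg

/-- Exact orbit size and stabiliser order from certificates (single-mask objects). -/
theorem orb1_exact (K : Subgroup (Equiv.Perm GolayPt)) (cardK : ℕ) (hcard : Nat.card K = cardK)
    (memK : List ℕ → Bool) (hmemK : ∀ l, isM24L l = true → memK l = true → permL l ∈ K)
    (gens : List (List ℕ)) (hgens : gens.all (fun l => isM24L l && memK l) = true)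
    (X P D N r : ℕ) (m0 : ℕ) (hm0 : ent X 24 r = m0)
    (h1 : allBelow (schr1 gens X P D N r) N = true)
    (h2 : allBelow (mono1 X) (N - 1) = true)
    (levels : List (ℕ × List (List ℕ)))
    (h3 : chainChk (fun l => memK l && actM l 0 m0 == m0) levels [] = true)
    (h4 : N * chainProd levels = cardK) :
    (orbS K (mset m0)).ncard = N ∧
      Nat.card ↥(K ⊓ MulAction.stabilizer (Equiv.Perm GolayPt) (mset m0)) = chainProd levels := by
  have hgens' : ∀ l ∈ gens, isPermL l = true ∧ permL l ∈ K := by
    intro l hl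
    rw [List.all_eq_true] at hgens
    have := hgens l hl
    rw [Bool.and_eq_true] at this
    exact ⟨isPermL_of_isM24L this.1, hmemK l this.1 this.2⟩
  have ha := orb1_lb K gens hgens' X P D N r h1 h2
  rw [hm0] at ha
  have hs := chain_lb (K ⊓ MulAction.stabilizer (Equiv.Perm GolayPt) (mset m0))
    (fun l => memK l && actM l 0 m0 == m0) (by
      intro l hl hm
      rw [Bool.and_eq_true, beq_iff_eq] at hm
      exact ⟨hmemK l hl hm.1, stab_mset_of_eq (isPermL_of_isM24L hl) m0 hm.2⟩) levels []
    (by simp) h3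
  rw [fixS_nil, inf_top_eq] at hs
  exact orbS_exact K (mset m0) N (chainProd levels) ha hs (h4.trans hcard.symm)

/-- Exact orbit size and stabiliser order from certificates (`k`-mask objects). -/
theorem orbK_exact (K : Subgroup (Equiv.Perm GolayPt)) (cardK : ℕ) (hcard : Nat.card K = cardK)
    (memK : List ℕ → Bool) (hmemK : ∀ l, isM24L l = true → memK l = true → permL l ∈ K)
    (gens : List (List ℕ)) (hgens : gens.all (fun l => isM24L l && memK l) = true)
    (k X P D N r : ℕ) (l0 : List ℕ) (hl0 : decK k X r = l0)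
    (h1 : allBelow (schrK k gens X P D N r) N = true)
    (h2 : allBelow (monoK k X) (N - 1) = true)
    (levels : List (ℕ × List (List ℕ)))
    (h3 : chainChk (fun l => memK l && sameSet (l0.map (actM l 0)) l0) levels [] = true)
    (h4 : N * chainProd levels = cardK) :
    (orbS K (obj l0)).ncard = N ∧
      Nat.card ↥(K ⊓ MulAction.stabilizer (Equiv.Perm GolayPt) (obj l0)) = chainProd levels := by
  have hgens' : ∀ l ∈ gens, isPermL l = true ∧ permL l ∈ K := by
    intro l hl
    rw [List.all_eq_true] at hgens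
    have := hgens l hl
    rw [Bool.and_eq_true] at this
    exact ⟨isPermL_of_isM24L this.1, hmemK l this.1 this.2⟩
  have ha := orbK_lb K k gens hgens' X P D N r h1 h2
  rw [hl0] at ha
  have hs := chain_lb (K ⊓ MulAction.stabilizer (Equiv.Perm GolayPt) (obj l0))
    (fun l => memK l && sameSet (l0.map (actM l 0)) l0) (by
      intro l hl hm
      rw [Bool.and_eq_true] at hm
      exact ⟨hmemK l hl hm.1, stab_obj_of_sameSet (isPermL_of_isM24L hl) l0 hm.2⟩) levels []
    (by simp) h3
  rw [fixS_nil, inf_top_eq] at hs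
  exact orbS_exact K (obj l0) N (chainProd levels) ha hs (h4.trans hcard.symm)

section Cover

variable {A : Type*} [MulAction (Equiv.Perm GolayPt) A]

theorem ncard_biUnion_orbS (K : Subgroup (Equiv.Perm GolayPt)) (xs : List A)
    (hdist : (xs.map (fun x => (orbS K x).ncard)).Nodup) :
    (⋃ x ∈ xs, orbS K x).Finite ∧
      (⋃ x ∈ xs, orbS K x).ncard = (xs.map (fun x => (orbS K x).ncard)).sum := by
  induction xs with
  | nil => simp
  | cons x xs ih =>
    rw [List.map_cons, List.nodup_cons] at hdist
    obtain ⟨hfin, hcard⟩ := ih hdist.2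
    have e : (⋃ y ∈ x :: xs, orbS K y) = orbS K x ∪ ⋃ y ∈ xs, orbS K y := by
      ext z; simp
    have hdisj : Disjoint (orbS K x) (⋃ y ∈ xs, orbS K y) := by
      rw [Set.disjoint_iUnion₂_right]
      intro y hy
      apply orbS_disjoint_of_ne
      intro heq
      apply hdist.1
      rw [List.mem_map]
      exact ⟨y, hy, by rw [heq]⟩
    rw [e]
    refine ⟨(orbS_finite K x).union hfin, ?_⟩
    rw [Set.ncard_union_eq hdisj (orbS_finite K x) hfin, hcard, List.map_cons, List.sum_cons]

/-- Orbits with pairwise distinct sizes adding up to the size of an invariant set cover it. -/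
theorem cover_of_orbits (K : Subgroup (Equiv.Perm GolayPt)) (S : Set A) (hS : S.Finite)
    (hinv : ∀ g ∈ K, ∀ s ∈ S, g • s ∈ S) (xs : List A) (hxs : ∀ x ∈ xs, x ∈ S)
    (hdist : (xs.map (fun x => (orbS K x).ncard)).Nodup)
    (hsum : S.ncard ≤ (xs.map (fun x => (orbS K x).ncard)).sum) :
    ∀ s ∈ S, ∃ x ∈ xs, s ∈ orbS K x := by
  obtain ⟨hfin, hcard⟩ := ncard_biUnion_orbS K xs hdist
  have hsub : (⋃ x ∈ xs, orbS K x) ⊆ S := by
    intro z hz
    simp only [Set.mem_iUnion] at hz
    obtain ⟨x, hx, g, hg, rfl⟩ := hz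
    exact hinv g hg x (hxs x hx)
  have heq : (⋃ x ∈ xs, orbS K x) = S :=
    Set.eq_of_subset_of_ncard_le hsub (by rw [hcard]; exact hsum) hS
  intro s hs
  rw [← heq] at hs
  simp only [Set.mem_iUnion] at hs
  obtain ⟨x, hx, h⟩ := hs
  exact ⟨x, hx, h⟩

/-- An orbit of full size inside a finite invariant set is the whole set. -/
theorem orbS_eq_of_ncard (K : Subgroup (Equiv.Perm GolayPt)) (S : Set A) (hS : S.Finite)
    (hinv : ∀ g ∈ K, ∀ s ∈ S, g • s ∈ S) (x : A) (hx : x ∈ S)
    (h : S.ncard ≤ (orbS K x).ncard) : orbS K x = S := by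
  apply Set.eq_of_subset_of_ncard_le _ h hS
  rintro _ ⟨g, hg, rfl⟩
  exact hinv g hg x hx

end Cover

/-! ### Counting octads and dodecads -/

def cntW (w : ℕ) : ℕ → ℕ
  | 0 => 0
  | k + 1 => (if pc 24 (cw k) = w then 1 else 0) + cntW w k

theorem cntW_eq (w k : ℕ) : cntW w k = ((Finset.range k).filter (fun n => pc 24 (cw n) = w)).card := by
  induction k with
  | zero => simp [cntW]
  | succ k ih =>
    rw [cntW, ih, Finset.range_add_one, Finset.filter_insert]
    by_cases h : pc 24 (cw k) = w
    · rw [if_pos h, if_pos h, Finset.card_insert_of_notMem (by simp)]; omega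
    · rw [if_neg h, if_neg h]; omega

theorem cntW_8 : cntW 8 4096 = 759 := by decide +kernel

theorem cntW_12 : cntW 12 4096 = 2576 := by decide +kernel

theorem octads_subset :
    octads ⊆ (fun n => mset (cw n)) '' ((Finset.range 4096).filter (fun n => pc 24 (cw n) = 8) : Set ℕ) := by
  intro o ho
  obtain ⟨n, hn, hpc, rfl⟩ := (mem_octads_iff o).mp ho
  exact ⟨n, by simp [hn, hpc], rfl⟩

theorem octads_finite : octads.Finite :=
  Set.Finite.subset (Set.toFinite _) octads_subset

theorem ncard_octads_le : octads.ncard ≤ 759 := by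
  have h1 := Set.ncard_le_ncard octads_subset (Set.toFinite _)
  have h2 := Set.ncard_image_le (f := fun n => mset (cw n))
    (s := ((Finset.range 4096).filter (fun n => pc 24 (cw n) = 8) : Set ℕ)) (Set.toFinite _)
  rw [Set.ncard_coe_finset, ← cntW_eq, cntW_8] at h2
  exact le_trans h1 h2

end Cfsg.Agent.Lib.Helper9
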