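import Mathlib
import Cfsg.Prelude.Def_Sporadic_a
import Cfsg.Prelude.Def_SporadicCombinatorics
import Cfsg.Agent.Lib.Helper9.M24Restrict

set_option autoImplicit false

open scoped Pointwise

namespace Cfsg.Agent.Lib.Helper9

open Cfsg

section Core

variable {A : Type*} [MulAction (Equiv.Perm GolayPt) A]

theorem orbit_mem_core (K : Subgroup (Equiv.Perm GolayPt)) (dec : ℕ → A) (N r : ℕ)
    (gen : ℕ → Equiv.Perm GolayPt) (pred gi dep : ℕ → ℕ)
    (hS : ∀ i < N, i = r ∨ (pred i < N ∧ dep (pred i) < dep i ∧ gen (gi i) ∈ K ∧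
      gen (gi i) • dec (pred i) = dec i)) :
    ∀ i < N, dec i ∈ orbS K (dec r) := by
  have hmem : ∀ d i, i < N → dep i = d → dec i ∈ orbS K (dec r) := by
    intro d
    induction d using Nat.strong_induction_on with
    | _ d ih =>
      intro i hi hd
      rcases hS i hi with h | ⟨hp, hdp, hg, he⟩
      · rw [h]; exact mem_orbS_self K _
      · obtain ⟨k, hk, hkx⟩ := ih (dep (pred i)) (by omega) (pred i) hp rfl
        refine ⟨gen (gi i) * k, K.mul_mem hg hk, ?_⟩
        rw [mul_smul, hkx, he]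
  exact fun i hi => hmem (dep i) i hi rfl

theorem smul_mem_orbS {K : Subgroup (Equiv.Perm GolayPt)} {x y : A} {g : Equiv.Perm GolayPt}
    (hg : g ∈ K) (h : y ∈ orbS K x) : g • y ∈ orbS K x := by
  obtain ⟨k, hk, rfl⟩ := h
  exact ⟨g * k, K.mul_mem hg hk, mul_smul _ _ _⟩

end Core

theorem orbK_mem (K : Subgroup (Equiv.Perm GolayPt)) (k : ℕ) (gens : List (List ℕ))
    (hgens : ∀ l ∈ gens, isPermL l = true ∧ permL l ∈ K) (X P D N r : ℕ)
    (h1 : allBelow (schrK k gens X P D N r) N = true) :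
    ∀ i < N, obj (decK k X i) ∈ orbS K (obj (decK k X r)) := by
  have h1' := allBelow_spec _ _ h1
  apply orbit_mem_core K (fun i => obj (decK k X i)) N r
    (fun j => permL (gens.getD j [])) (fun i => ent P 24 i &&& 65535) (fun i => ent P 24 i >>> 16)
    (fun i => ent D 8 i)
  intro i hi
  have := h1' i hi
  unfold schrK at this
  simp only [Bool.and_eq_true, Bool.or_eq_true, beq_iff_eq, decide_eq_true_eq] at this
  rcases this.2 with h | ⟨⟨⟨hp, hg⟩, hd⟩, hs⟩
  · exact Or.inl h
  · right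
    have hmem := getD_mem_of_lt hg
    refine ⟨hp, hd, (hgens _ hmem).2, ?_⟩
    rw [smul_obj (hgens _ hmem).1]
    exact obj_eq_of_sameSet hs

theorem orb1_mem (K : Subgroup (Equiv.Perm GolayPt)) (gens : List (List ℕ))
    (hgens : ∀ l ∈ gens, isPermL l = true ∧ permL l ∈ K) (X P D N r : ℕ)
    (h1 : allBelow (schr1 gens X P D N r) N = true) :
    ∀ i < N, mset (ent X 24 i) ∈ orbS K (mset (ent X 24 r)) := by
  have h1' := allBelow_spec _ _ h1
  apply orbit_mem_core K (fun i => mset (ent X 24 i)) N r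
    (fun j => permL (gens.getD j [])) (fun i => ent P 24 i &&& 65535) (fun i => ent P 24 i >>> 16)
    (fun i => ent D 8 i)
  intro i hi
  have := h1' i hi
  unfold schr1 at this
  simp only [Bool.and_eq_true, Bool.or_eq_true, beq_iff_eq, decide_eq_true_eq] at this
  rcases this with h | ⟨⟨⟨hp, hg⟩, hd⟩, hs⟩
  · exact Or.inl h
  · right
    have hmem := getD_mem_of_lt hg
    refine ⟨hp, hd, (hgens _ hmem).2, ?_⟩
    rw [permL_smul_mset (hgens _ hmem).1, hs]

theorem gens_ok_of_all {K : Subgroup (Equiv.Perm GolayPt)} {memK : List ℕ → Bool}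
    (hmemK : ∀ l, isM24L l = true → memK l = true → permL l ∈ K) {gens : List (List ℕ)}
    (hgens : gens.all (fun l => isM24L l && memK l) = true) :
    ∀ l ∈ gens, isPermL l = true ∧ permL l ∈ K := by
  intro l hl
  rw [List.all_eq_true] at hgens
  have := hgens l hl
  rw [Bool.and_eq_true] at this
  exact ⟨isPermL_of_isM24L this.1, hmemK l this.1 this.2⟩

theorem card_obj {l : List ℕ} (h : pwLt l = true) (hb : ∀ a ∈ l, a < 2 ^ 24) :
    (obj l).card = l.length := by
  unfold obj
  rw [List.toFinset_card_of_nodup, List.length_map]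
  apply List.Nodup.map_on _ (pairwise_of_pwLt h).nodup
  intro a ha b hb' hab
  exact mset_injOn (hb a ha) (hb b hb') hab

theorem mset_zero : mset 0 = ∅ := by
  ext p
  simp [mem_mset]

theorem mset_xor (a b : ℕ) : mset (a ^^^ b) = symmDiff (mset a) (mset b) := by
  ext p
  rw [Finset.mem_symmDiff, mem_mset, mem_mset, mem_mset, Nat.testBit_xor]
  cases a.testBit (ptIdx p) <;> cases b.testBit (ptIdx p) <;> simp

theorem disjoint_mset {a b : ℕ} (h : a &&& b = 0) : Disjoint (mset a) (mset b) := by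
  rw [Finset.disjoint_iff_inter_eq_empty, ← mset_and, h, mset_zero]

theorem disjoint_smul {g : Equiv.Perm GolayPt} {s t : Finset GolayPt} (h : Disjoint s t) :
    Disjoint (g • s) (g • t) := by
  rw [Finset.disjoint_iff_inter_eq_empty, ← Finset.card_eq_zero] at h ⊢
  rw [card_inter_smul]
  exact h

theorem smul_mem_trios {g : Equiv.Perm GolayPt} (hg : g ∈ M24) {T : Finset (Finset GolayPt)}
    (hT : T ∈ trios) : g • T ∈ trios := by
  obtain ⟨h3, hoct, hdis⟩ := hT
  refine ⟨by rw [Finset.card_smul_finset]; exact h3, ?_, ?_⟩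
  · intro x hx
    obtain ⟨o, ho, rfl⟩ := Finset.mem_smul_finset.mp hx
    exact smul_mem_octads hg (hoct o ho)
  · intro x hx x' hx' hne
    obtain ⟨o, ho, rfl⟩ := Finset.mem_smul_finset.mp hx
    obtain ⟨o', ho', rfl⟩ := Finset.mem_smul_finset.mp hx'
    exact disjoint_smul (hdis o ho o' ho' (fun h => hne (by rw [h])))

theorem smul_mem_sextets {g : Equiv.Perm GolayPt} (hg : g ∈ M24) {S : Finset (Finset GolayPt)}
    (hS : S ∈ sextets) : g • S ∈ sextets := by
  obtain ⟨h6, h4, hun⟩ := hS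
  refine ⟨by rw [Finset.card_smul_finset]; exact h6, ?_, ?_⟩
  · intro x hx
    obtain ⟨t, ht, rfl⟩ := Finset.mem_smul_finset.mp hx
    rw [Finset.card_smul_finset]
    exact h4 t ht
  · intro x hx x' hx' hne
    obtain ⟨t, ht, rfl⟩ := Finset.mem_smul_finset.mp hx
    obtain ⟨t', ht', rfl⟩ := Finset.mem_smul_finset.mp hx'
    rw [← Finset.smul_finset_union]
    exact smul_mem_octads hg (hun t ht t' ht' (fun h => hne (by rw [h])))

/-- The list of masks is a trio. -/
def isTrioL (l : List ℕ) : Bool :=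
  l.length == 3 && pwLt l && l.all (fun a => decide (a < 2 ^ 24) && isOct a) &&
    l.all (fun a => l.all (fun b => a == b || (a &&& b) == 0))

theorem obj_mem_trios {l : List ℕ} (h : isTrioL l = true) : obj l ∈ trios := by
  unfold isTrioL at h
  simp only [Bool.and_eq_true, beq_iff_eq, List.all_eq_true, decide_eq_true_eq, Bool.or_eq_true] at h
  obtain ⟨⟨⟨h3, hpw⟩, hoct⟩, hdis⟩ := h
  refine ⟨by rw [card_obj hpw (fun a ha => (hoct a ha).1), h3], ?_, ?_⟩
  · intro s hs
    obtain ⟨a, ha, rfl⟩ := mem_obj.mp hs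
    exact mset_mem_octads (hoct a ha).2
  · intro s hs s' hs' hne
    obtain ⟨a, ha, rfl⟩ := mem_obj.mp hs
    obtain ⟨b, hb, rfl⟩ := mem_obj.mp hs'
    rcases hdis a ha b hb with h | h
    · exact absurd (by rw [h]) hne
    · exact disjoint_mset h

/-- The list of masks is a sextet. -/
def isSextL (l : List ℕ) : Bool :=
  l.length == 6 && pwLt l && l.all (fun a => decide (a < 2 ^ 24) && pc 24 a == 4) &&
    l.all (fun a => l.all (fun b => a == b || isOct (a ||| b)))

theorem obj_mem_sextets {l : List ℕ} (h : isSextL l = true) : obj l ∈ sextets := by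
  unfold isSextL at h
  simp only [Bool.and_eq_true, beq_iff_eq, List.all_eq_true, decide_eq_true_eq, Bool.or_eq_true] at h
  obtain ⟨⟨⟨h6, hpw⟩, h4⟩, hun⟩ := h
  refine ⟨by rw [card_obj hpw (fun a ha => (h4 a ha).1), h6], ?_, ?_⟩
  · intro s hs
    obtain ⟨a, ha, rfl⟩ := mem_obj.mp hs
    rw [card_mset]; exact (h4 a ha).2
  · intro s hs s' hs' hne
    obtain ⟨a, ha, rfl⟩ := mem_obj.mp hs
    obtain ⟨b, hb, rfl⟩ := mem_obj.mp hs'
    rcases hun a ha b hb with h | h
    · exact absurd (by rw [h]) hne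
    · rw [← mset_or]; exact mset_mem_octads h

section Transport

variable {A B : Type*} [MulAction (Equiv.Perm GolayPt) A] [MulAction (Equiv.Perm GolayPt) B]

/-- Orbits of the stabiliser of a translated object are translates of the orbits of the
stabiliser of the object. -/
theorem orbit_transport {g : Equiv.Perm GolayPt} (hg : g ∈ M24) (s0 : B) (x : A) :
    MulAction.orbit ↥(MulAction.stabilizer ↥M24 (g • s0)) (g • x) =
      (fun y => g • y) '' orbS (M24 ⊓ MulAction.stabilizer (Equiv.Perm GolayPt) s0) x := by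
  rw [orbit_stab_eq]
  ext z
  constructor
  · rintro ⟨h, ⟨hh, hs⟩, rfl⟩
    refine ⟨(g⁻¹ * h * g) • x, ⟨g⁻¹ * h * g, ⟨M24.mul_mem (M24.mul_mem (M24.inv_mem hg) hh) hg, ?_⟩,
      rfl⟩, ?_⟩
    · have hs' : h • g • s0 = g • s0 := hs
      show (g⁻¹ * h * g) • s0 = s0
      rw [mul_smul, mul_smul, hs', inv_smul_smul]
    · show g • (g⁻¹ * h * g) • x = h • g • x
      rw [mul_smul, mul_smul, smul_inv_smul]
  · rintro ⟨_, ⟨k, ⟨hk, hs⟩, rfl⟩, rfl⟩
    refine ⟨g * k * g⁻¹, ⟨M24.mul_mem (M24.mul_mem hg hk) (M24.inv_mem hg), ?_⟩, ?_⟩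
    · have hs' : k • s0 = s0 := hs
      show (g * k * g⁻¹) • g • s0 = g • s0
      rw [mul_smul, mul_smul, inv_smul_smul, hs']
    · rw [mul_smul, mul_smul, inv_smul_smul]

theorem ncard_orbit_transport {g : Equiv.Perm GolayPt} (hg : g ∈ M24) (s0 : B) (x : A) :
    (MulAction.orbit ↥(MulAction.stabilizer ↥M24 (g • s0)) (g • x)).ncard =
      (orbS (M24 ⊓ MulAction.stabilizer (Equiv.Perm GolayPt) s0) x).ncard := by
  rw [orbit_transport hg]
  exact Set.ncard_image_of_injective _ (MulAction.injective g)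

end Transport

end Cfsg.Agent.Lib.Helper9
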