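import Mathlib
import Cfsg.Prelude.Def_Sporadic_a
import Cfsg.Prelude.Def_SporadicCombinatorics
import Cfsg.Agent.Lib.Helper9.M24Conj
import Cfsg.Agent.Lib.Helper9.M24Orb2
import Cfsg.Agent.Lib.Helper9.M24Tab

set_option autoImplicit false

open scoped Pointwise

namespace Cfsg.Agent.Lib.Helper9

open Cfsg

theorem orbC_mem (K : Subgroup (Equiv.Perm GolayPt)) (gens : List (List ℕ))
    (hgens : ∀ l ∈ gens, isPermL l = true ∧ permL l ∈ K) (X P D N r : ℕ)
    (h1 : allBelow (schrC gens X P D N r) N = true) :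
    ∀ i < N, (⟨permL (unpackL (ent X 120 i))⟩ : CP) ∈
      orbS K (⟨permL (unpackL (ent X 120 r))⟩ : CP) := by
  have h1' := allBelow_spec _ _ h1
  apply orbit_mem_core K (fun i => (⟨permL (unpackL (ent X 120 i))⟩ : CP)) N r
    (fun j => permL (gens.getD j [])) (fun i => ent P 24 i &&& 65535) (fun i => ent P 24 i >>> 16)
    (fun i => ent D 8 i)
  intro i hi
  have := h1' i hi
  unfold schrC at this
  simp only [Bool.and_eq_true, Bool.or_eq_true, beq_iff_eq, decide_eq_true_eq] at this
  rcases this.2 with h | ⟨⟨⟨hp, hg⟩, hd⟩, hs⟩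
  · exact Or.inl h
  · right
    have hmem := getD_mem_of_lt hg
    refine ⟨hp, hd, (hgens _ hmem).2, ?_⟩
    have hpp := h1' (ent P 24 i &&& 65535) hp
    unfold schrC at hpp
    simp only [Bool.and_eq_true, beq_iff_eq] at hpp
    rw [CP_smul, permL_conj (hgens _ hmem).1 hpp.1.1 this.1.1 hs]

/-- Every member of a conjugation orbit appears in its certified table. -/
theorem orbC_table (K : Subgroup (Equiv.Perm GolayPt)) (gens : List (List ℕ))
    (hgens : ∀ l ∈ gens, isPermL l = true ∧ permL l ∈ K) (X P D N r : ℕ)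
    (h1 : allBelow (schrC gens X P D N r) N = true)
    (h2 : allBelow (monoC X) (N - 1) = true) (hN0 : 0 < N)
    (hN : (orbS K (⟨permL (unpackL (ent X 120 r))⟩ : CP)).ncard = N)
    (x : Equiv.Perm GolayPt) (hx : (⟨x⟩ : CP) ∈ orbS K (⟨permL (unpackL (ent X 120 r))⟩ : CP)) :
    ∃ i < N, isPermL (unpackL (ent X 120 i)) = true ∧
      packL (unpackL (ent X 120 i)) = ent X 120 i ∧ x = permL (unpackL (ent X 120 i)) := by
  have h1' := allBelow_spec _ _ h1
  have h2' := allBelow_spec _ _ h2
  have hperm : ∀ i < N, isPermL (unpackL (ent X 120 i)) = true ∧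
      packL (unpackL (ent X 120 i)) = ent X 120 i := by
    intro i hi
    have := h1' i hi
    unfold schrC at this
    simp only [Bool.and_eq_true, beq_iff_eq] at this
    exact this.1
  have hinj : ∀ i < N, ∀ j < N, (⟨permL (unpackL (ent X 120 i))⟩ : CP) =
      ⟨permL (unpackL (ent X 120 j))⟩ → i = j := by
    intro i hi j hj hij
    have e := permL_inj (hperm i hi).1 (hperm j hj).1 (congrArg CP.p hij)
    apply inj_of_mono (fun i => ent X 120 i) N (fun i hi => by
      have := h2' i (by omega)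
      unfold monoC at this
      simpa using this) i hi j hj
    show ent X 120 i = ent X 120 j
    rw [← (hperm i hi).2, ← (hperm j hj).2, e]
  have hfin : (orbS K (⟨permL (unpackL (ent X 120 r))⟩ : CP)).Finite :=
    Set.finite_of_ncard_pos (by rw [hN]; exact hN0)
  have key := mem_iff_table (orbS K (⟨permL (unpackL (ent X 120 r))⟩ : CP)) hfin N
    (fun i => (⟨permL (unpackL (ent X 120 i))⟩ : CP))
    (orbC_mem K gens hgens X P D N r h1) hinj (le_of_eq hN) ⟨x⟩
  obtain ⟨i, hi, -, he⟩ := key.mp hx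
  exact ⟨i, hi, (hperm i hi).1, (hperm i hi).2, (congrArg CP.p he).symm⟩

end Cfsg.Agent.Lib.Helper9
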