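import Mathlib

set_option autoImplicit false

namespace Cfsg.Agent.Lib.Helper9

variable {Ω : Type*} {b : ℕ}

/-- The permutations preserving the partition of `Ω` into the fibres of `f`. -/
def blockStab (f : Ω → Fin b) : Subgroup (Equiv.Perm Ω) where
  carrier := {g | ∀ x y : Ω, f x = f y ↔ f (g x) = f (g y)}
  one_mem' := by intro x y; rfl
  mul_mem' := by
    intro g h hg hh x y
    rw [hh x y, hg (h x) (h y)]; rfl
  inv_mem' := by
    intro g hg x y
    have := hg (g⁻¹ x) (g⁻¹ y)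
    have e1 : g (g⁻¹ x) = x := by simp
    have e2 : g (g⁻¹ y) = y := by simp
    rw [e1, e2] at this
    exact this.symm

theorem mem_blockStab_iff (f : Ω → Fin b) (g : Equiv.Perm Ω) :
    g ∈ blockStab f ↔ ∀ x y : Ω, f x = f y ↔ f (g x) = f (g y) := Iff.rfl

theorem swap_mem_blockStab [DecidableEq Ω] (f : Ω → Fin b) (p q : Ω) (hpq : f p = f q) :
    Equiv.swap p q ∈ blockStab f := by
  have key : ∀ x, f (Equiv.swap p q x) = f x := by
    intro x
    by_cases h1 : x = p
    · subst h1; rw [Equiv.swap_apply_left]; exact hpq.symm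
    · by_cases h2 : x = q
      · subst h2; rw [Equiv.swap_apply_right]; exact hpq
      · rw [Equiv.swap_apply_of_ne_of_ne h1 h2]
  intro x y
  rw [key x, key y]

/-- A permutation exchanging two blocks of the same size and fixing all other points. -/
theorem exists_blockSwap [Finite Ω] (f : Ω → Fin b) (i j : Fin b) (hij : i ≠ j)
    (hcard : Nat.card {x : Ω // f x = i} = Nat.card {x : Ω // f x = j}) :
    ∃ τ ∈ blockStab f, (∀ x, f (τ x) = Equiv.swap i j (f x)) ∧
      (∀ x, f x ≠ i → f x ≠ j → τ x = x) := by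
  classical
  obtain ⟨e⟩ : Nonempty ({x : Ω // f x = i} ≃ {x : Ω // f x = j}) := Finite.card_eq.mp hcard
  let t : Ω → Ω := fun x => if h : f x = i then (e ⟨x, h⟩ : Ω)
    else if h' : f x = j then (e.symm ⟨x, h'⟩ : Ω) else x
  have ht1 : ∀ x (h : f x = i), t x = (e ⟨x, h⟩ : Ω) := by
    intro x h
    show (if h : f x = i then (e ⟨x, h⟩ : Ω)
      else if h' : f x = j then (e.symm ⟨x, h'⟩ : Ω) else x) = _
    rw [dif_pos h]
  have ht2 : ∀ x (h : f x = j), t x = (e.symm ⟨x, h⟩ : Ω) := by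
    intro x h
    have hne : f x ≠ i := by rw [h]; exact hij.symm
    show (if h : f x = i then (e ⟨x, h⟩ : Ω)
      else if h' : f x = j then (e.symm ⟨x, h'⟩ : Ω) else x) = _
    rw [dif_neg hne, dif_pos h]
  have ht3 : ∀ x, f x ≠ i → f x ≠ j → t x = x := by
    intro x h1 h2
    show (if h : f x = i then (e ⟨x, h⟩ : Ω)
      else if h' : f x = j then (e.symm ⟨x, h'⟩ : Ω) else x) = _
    rw [dif_neg h1, dif_neg h2]
  have hinv : Function.Involutive t := by
    intro x
    by_cases h1 : f x = i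
    · rw [ht1 x h1, ht2 _ (e ⟨x, h1⟩).2]; simp
    · by_cases h2 : f x = j
      · rw [ht2 x h2, ht1 _ (e.symm ⟨x, h2⟩).2]; simp
      · rw [ht3 x h1 h2, ht3 x h1 h2]
  have hft : ∀ x, f (t x) = Equiv.swap i j (f x) := by
    intro x
    by_cases h1 : f x = i
    · rw [ht1 x h1, h1, Equiv.swap_apply_left]; exact (e ⟨x, h1⟩).2
    · by_cases h2 : f x = j
      · rw [ht2 x h2, h2, Equiv.swap_apply_right]; exact (e.symm ⟨x, h2⟩).2
      · rw [ht3 x h1 h2, Equiv.swap_apply_of_ne_of_ne h1 h2]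
  refine ⟨hinv.toPerm t, ?_, hft, ht3⟩
  intro x y
  show f x = f y ↔ f (t x) = f (t y)
  rw [hft, hft, (Equiv.swap i j).apply_eq_iff_eq]

/-- The block stabiliser is transitive on points. -/
theorem exists_mem_blockStab_apply_eq [Finite Ω] [DecidableEq Ω] (f : Ω → Fin b)
    (hcard : ∀ i j : Fin b, Nat.card {x : Ω // f x = i} = Nat.card {x : Ω // f x = j})
    (u p : Ω) : ∃ k ∈ blockStab f, k u = p := by
  by_cases h : f u = f p
  · exact ⟨Equiv.swap u p, swap_mem_blockStab f u p h, Equiv.swap_apply_left u p⟩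
  · obtain ⟨τ, hτ, hfτ, -⟩ := exists_blockSwap f (f u) (f p) h (hcard _ _)
    have h1 : f (τ u) = f p := by rw [hfτ, Equiv.swap_apply_left]
    refine ⟨Equiv.swap (τ u) p * τ, (blockStab f).mul_mem (swap_mem_blockStab f _ _ h1) hτ, ?_⟩
    rw [Equiv.Perm.mul_apply, Equiv.swap_apply_left]

/-- The stabiliser of a point in the block stabiliser is transitive on the points outside its block. -/
theorem exists_mem_blockStab_fix_apply_eq [Finite Ω] [DecidableEq Ω] (f : Ω → Fin b)
    (hcard : ∀ i j : Fin b, Nat.card {x : Ω // f x = i} = Nat.card {x : Ω // f x = j})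
    (p v q : Ω) (hv : f v ≠ f p) (hq : f q ≠ f p) : ∃ k ∈ blockStab f, k p = p ∧ k v = q := by
  have hpv : p ≠ v := fun h => hv (by rw [h])
  have hpq : p ≠ q := fun h => hq (by rw [h])
  by_cases h : f v = f q
  · exact ⟨Equiv.swap v q, swap_mem_blockStab f v q h, Equiv.swap_apply_of_ne_of_ne hpv hpq,
      Equiv.swap_apply_left v q⟩
  · obtain ⟨τ, hτ, hfτ, hτfix⟩ := exists_blockSwap f (f v) (f q) h (hcard _ _)
    have h1 : f (τ v) = f q := by rw [hfτ, Equiv.swap_apply_left]
    have h2 : τ p = p := hτfix p (Ne.symm hv) (Ne.symm hq)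
    have h3 : p ≠ τ v := fun h' => hq (by rw [h', h1])
    refine ⟨Equiv.swap (τ v) q * τ, (blockStab f).mul_mem (swap_mem_blockStab f _ _ h1) hτ, ?_, ?_⟩
    · rw [Equiv.Perm.mul_apply, h2, Equiv.swap_apply_of_ne_of_ne h3 hpq]
    · rw [Equiv.Perm.mul_apply, Equiv.swap_apply_left]

/-- Any subgroup strictly containing the block stabiliser is the whole symmetric group. -/
theorem eq_top_of_blockStab_lt [Finite Ω] [DecidableEq Ω] (f : Ω → Fin b)
    (hcard : ∀ i j : Fin b, Nat.card {x : Ω // f x = i} = Nat.card {x : Ω // f x = j})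
    (L : Subgroup (Equiv.Perm Ω)) (hL : blockStab f < L) : L = ⊤ := by
  obtain ⟨g, hgL, hgK⟩ := SetLike.exists_of_lt hL
  have hcross : ∃ u v : Ω, f u ≠ f v ∧ Equiv.swap u v ∈ L := by
    have : ∃ x y : Ω, ¬ (f x = f y ↔ f (g x) = f (g y)) := by
      by_contra hcon
      push Not at hcon
      exact hgK hcon
    obtain ⟨x, y, hxy⟩ := this
    by_cases h1 : f x = f y
    · have h2 : f (g x) ≠ f (g y) := fun h => hxy ⟨fun _ => h, fun _ => h1⟩
      refine ⟨g x, g y, h2, ?_⟩
      rw [Equiv.swap_apply_apply]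
      exact L.mul_mem (L.mul_mem hgL (hL.le (swap_mem_blockStab f x y h1))) (L.inv_mem hgL)
    · have h2 : f (g x) = f (g y) := by
        by_contra h
        exact hxy ⟨fun h' => absurd h' h1, fun h' => absurd h' h⟩
      refine ⟨x, y, h1, ?_⟩
      have : Equiv.swap x y = g⁻¹ * Equiv.swap (g x) (g y) * g⁻¹⁻¹ := by
        rw [← Equiv.swap_apply_apply]; simp
      rw [this]
      exact L.mul_mem (L.mul_mem (L.inv_mem hgL) (hL.le (swap_mem_blockStab f _ _ h2)))
        (L.inv_mem (L.inv_mem hgL))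
  obtain ⟨u, v, huv, hswL⟩ := hcross
  rw [eq_top_iff, ← Equiv.Perm.closure_isSwap, Subgroup.closure_le]
  rintro σ ⟨p, q, hpq, rfl⟩
  by_cases h : f p = f q
  · exact hL.le (swap_mem_blockStab f p q h)
  · obtain ⟨k1, hk1, hk1u⟩ := exists_mem_blockStab_apply_eq f hcard u p
    have hv' : f (k1 v) ≠ f p := by
      rw [← hk1u]
      intro h'
      exact huv ((hk1 u v).mpr h'.symm)
    obtain ⟨k2, hk2, hk2p, hk2v⟩ :=
      exists_mem_blockStab_fix_apply_eq f hcard p (k1 v) q hv' (Ne.symm h)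
    have : Equiv.swap p q = (k2 * k1) * Equiv.swap u v * (k2 * k1)⁻¹ := by
      rw [← Equiv.swap_apply_apply]
      simp [hk1u, hk2p, hk2v]
    rw [this]
    have hk : k2 * k1 ∈ L := hL.le ((blockStab f).mul_mem hk2 hk1)
    exact L.mul_mem (L.mul_mem hk hswL) (L.inv_mem hk)

/-- The block stabiliser is a proper subgroup when there are at least two blocks of size at least two. -/
theorem blockStab_ne_top [DecidableEq Ω] (f : Ω → Fin b)
    (x y z : Ω) (hxy : x ≠ y) (hfxy : f x = f y) (hxz : f x ≠ f z) : blockStab f ≠ ⊤ := by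
  intro htop
  have hmem : Equiv.swap y z ∈ blockStab f := by rw [htop]; trivial
  have := (hmem x y).mp hfxy
  have hxz' : x ≠ z := fun h => hxz (by rw [h])
  rw [Equiv.swap_apply_of_ne_of_ne hxy hxz', Equiv.swap_apply_left] at this
  exact hxz this

end Cfsg.Agent.Lib.Helper9
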